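import Groth.Agent.Lib.Helper2.GSS.DimShift

/-!
# Derived functors of `T ⋙ S` for exact `T` sending injectives to `S`-acyclics (helper2)

`Rⁿ(T ⋙ S) M ≅ RⁿS (T M)` (objectwise), by dimension shifting.
-/

set_option autoImplicit false
universe v v' v'' u u' u''

namespace Groth.Agent.Lib.Helper2.GSS

open CategoryTheory CategoryTheory.Limits
open Groth.Agent.Lib.Helper2.RDBridge

variable {𝒜 : Type u} [Category.{v} 𝒜] [Abelian 𝒜] [EnoughInjectives 𝒜]
  {ℬ : Type u'} [Category.{v'} ℬ] [Abelian ℬ] [EnoughInjectives ℬ]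
  {𝒟 : Type u''} [Category.{v''} 𝒟] [Abelian 𝒟]
  (T : 𝒜 ⥤ ℬ) [T.Additive] [PreservesFiniteLimits T] [PreservesFiniteColimits T]
  (S : ℬ ⥤ 𝒟) [S.Additive] [PreservesFiniteLimits S]

theorem nonempty_rightDerived_comp_iso
    (hI : ∀ (I : 𝒜), Injective I → ∀ n : ℕ, IsZero ((S.rightDerived (n + 1)).obj (T.obj I))) :
    ∀ (n : ℕ) (A : 𝒜),
      Nonempty (((T ⋙ S).rightDerived n).obj A ≅ (S.rightDerived n).obj (T.obj A)) := by
  haveI : PreservesFiniteLimits (T ⋙ S) := comp_preservesFiniteLimits T S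
  have key : ∀ (n : ℕ), (∀ A : 𝒜, Nonempty (((T ⋙ S).rightDerived (n + 1)).obj A ≅
      (S.rightDerived (n + 1)).obj (T.obj A))) → ∀ A : 𝒜,
      Nonempty (((T ⋙ S).rightDerived (n + 2)).obj A ≅ (S.rightDerived (n + 2)).obj (T.obj A)) := by
    intro n ih A
    have hS := injSC_shortExact A
    have hS' : ((injSC A).map T).ShortExact := hS.map_of_exact T
    obtain ⟨δ, z1, z2, z3, e1, e2, e3⟩ := rightDerived_les' (T ⋙ S) (injSC A) hS (n + 1)
    haveI : Mono δ := e2.mono_g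
      (((T ⋙ S).isZero_rightDerived_obj_injective_succ n (injSC A).X₂).eq_of_src _ _)
    haveI : Epi δ := e3.epi_f
      (((T ⋙ S).isZero_rightDerived_obj_injective_succ (n + 1) (injSC A).X₂).eq_of_tgt _ _)
    haveI : IsIso δ := isIso_of_mono_of_epi δ
    obtain ⟨δ', z1', z2', z3', e1', e2', e3'⟩ := rightDerived_les' S ((injSC A).map T) hS' (n + 1)
    have hm' : Mono δ' := e2'.mono_g ((hI (injSC A).X₂ inferInstance n).eq_of_src _ _)
    have he' : Epi δ' := e3'.epi_f ((hI (injSC A).X₂ inferInstance (n + 1)).eq_of_tgt _ _)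
    haveI : IsIso δ' := @isIso_of_mono_of_epi _ _ _ _ _ δ' hm' he'
    have iso'0 := asIso δ'
    have iso' : (S.rightDerived (n + 1)).obj (T.obj (injSC A).X₃) ≅
        (S.rightDerived (n + 1 + 1)).obj (T.obj (injSC A).X₁) := iso'0
    obtain ⟨eQ⟩ := ih (injSC A).X₃
    exact ⟨(asIso δ).symm ≪≫ eQ ≪≫ iso'⟩
  intro n
  induction n using Nat.twoStepInduction with
  | zero =>
    exact fun A => ⟨(T ⋙ S).rightDerivedZeroIsoSelf.app A ≪≫
      (S.rightDerivedZeroIsoSelf.app (T.obj A)).symm⟩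
  | one =>
    intro A
    have hS := injSC_shortExact A
    have hS' : ((injSC A).map T).ShortExact := hS.map_of_exact T
    obtain ⟨δ, z1, z2, z3, e1, e2, e3⟩ := rightDerived_les' (T ⋙ S) (injSC A) hS 0
    have hδ : Epi δ := e3.epi_f
      (((T ⋙ S).isZero_rightDerived_obj_injective_succ 0 (injSC A).X₂).eq_of_tgt _ _)
    obtain ⟨δ', z1', z2', z3', e1', e2', e3'⟩ := rightDerived_les' S ((injSC A).map T) hS' 0
    have hδ' : Epi δ' := e3'.epi_f ((hI (injSC A).X₂ inferInstance 0).eq_of_tgt _ _)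
    refine nonempty_iso_X₃ _ _ e2 e2' hδ hδ'
      ((T ⋙ S).rightDerivedZeroIsoSelf.app _ ≪≫ (S.rightDerivedZeroIsoSelf.app _).symm)
      ((T ⋙ S).rightDerivedZeroIsoSelf.app _ ≪≫ (S.rightDerivedZeroIsoSelf.app _).symm) ?_
    dsimp only [Iso.trans_hom, Iso.symm_hom, Iso.app_hom, Iso.app_inv, ShortComplex.map_g]
    have n1 := (T ⋙ S).rightDerivedZeroIsoSelf.hom.naturality (injSC A).g
    have n2 := S.rightDerivedZeroIsoSelf.inv.naturality (T.map (injSC A).g)
    refine Eq.trans (Category.assoc _ _ _) ?_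
    change (T ⋙ S).rightDerivedZeroIsoSelf.hom.app (injSC A).X₂ ≫
      S.rightDerivedZeroIsoSelf.inv.app (T.obj (injSC A).X₂) ≫
        (S.rightDerived 0).map (T.map (injSC A).g) =
      ((T ⋙ S).rightDerived 0).map (injSC A).g ≫
        (T ⋙ S).rightDerivedZeroIsoSelf.hom.app (injSC A).X₃ ≫
          S.rightDerivedZeroIsoSelf.inv.app (T.obj (injSC A).X₃)
    calc _ = (T ⋙ S).rightDerivedZeroIsoSelf.hom.app (injSC A).X₂ ≫
          (S.map (T.map (injSC A).g) ≫ S.rightDerivedZeroIsoSelf.inv.app (T.obj (injSC A).X₃)) :=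
            congrArg (fun t => (T ⋙ S).rightDerivedZeroIsoSelf.hom.app (injSC A).X₂ ≫ t) n2.symm
      _ = ((T ⋙ S).rightDerivedZeroIsoSelf.hom.app (injSC A).X₂ ≫ (T ⋙ S).map (injSC A).g) ≫
          S.rightDerivedZeroIsoSelf.inv.app (T.obj (injSC A).X₃) := (Category.assoc _ _ _).symm
      _ = (((T ⋙ S).rightDerived 0).map (injSC A).g ≫
          (T ⋙ S).rightDerivedZeroIsoSelf.hom.app (injSC A).X₃) ≫
          S.rightDerivedZeroIsoSelf.inv.app (T.obj (injSC A).X₃) :=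
            congrArg (fun t => t ≫ S.rightDerivedZeroIsoSelf.inv.app (T.obj (injSC A).X₃)) n1.symm
      _ = _ := Category.assoc _ _ _
  | more n _ ih => exact key n ih

end Groth.Agent.Lib.Helper2.GSS
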