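import Mathlib
import Groth.Prelude.Def_CohCx
import Groth.Prelude.Def_CohSite
import Groth.Agent.Lib.Helper5.CechFlasque
import Groth.Agent.Lib.Helper13.FlasqueBasic

set_option autoImplicit false
universe u
open CategoryTheory CategoryTheory.Limits Opposite
open Groth.Agent.Lib.Helper5

/-!
# Direct images preserve Čech-acyclicity / total acyclicity

For a continuous functor `u : D ⥤ C` between small sites whose inverse image on sheaves of sets
is left exact, `u_*` sends totally acyclic abelian sheaves (in particular injective ones) to totally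
acyclic sheaves.  The proof transports the Čech complexes of epimorphisms of sheaves of sets
through the adjunctions (helper5's `CechFlasque` gives the equivalence between total acyclicity
and Čech-acyclicity).

* `nerveIso`: the Čech nerve commutes with functors preserving the relevant wide pullbacks.
* `cechAcyclic_push`, `isTotallyAcyclic_push`, `subsingleton_HU_push_of_injective`.
-/

noncomputable section

namespace Groth.Agent.Lib.Helper2.CechTransfer

section Nerve
open WidePullbackShape

variable {D : Type*} [Category D] {E : Type*} [Category E] (f : Arrow D)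
  [∀ n : ℕ, HasWidePullback f.right (fun _ : Fin (n + 1) => f.left) fun _ => f.hom]
  (G : D ⥤ E)
  [∀ n : ℕ, PreservesLimit (wideCospan f.right (fun _ : Fin (n + 1) => f.left) fun _ => f.hom) G]
  [∀ n : ℕ, HasWidePullback (Arrow.mk (G.map f.hom)).right
    (fun _ : Fin (n + 1) => (Arrow.mk (G.map f.hom)).left) fun _ => (Arrow.mk (G.map f.hom)).hom]

/-- the comparison map `G (N_n f) ⟶ N_n (G f)`. -/
def cmpHom (n : ℕ) :
    G.obj (widePullback f.right (fun _ : Fin (n + 1) => f.left) fun _ => f.hom) ⟶
      widePullback (Arrow.mk (G.map f.hom)).right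
        (fun _ : Fin (n + 1) => (Arrow.mk (G.map f.hom)).left) fun _ => (Arrow.mk (G.map f.hom)).hom :=
  WidePullback.lift (G.map (WidePullback.base _)) (fun i => G.map (WidePullback.π _ i))
    (fun i => by
      change G.map _ ≫ G.map f.hom = _
      rw [← G.map_comp, WidePullback.π_arrow])

@[reassoc (attr := simp)]
lemma cmpHom_π (n : ℕ) (i : Fin (n + 1)) :
    cmpHom f G n ≫ WidePullback.π _ i = G.map (WidePullback.π _ i) :=
  WidePullback.lift_π _ _ _ _ _

@[reassoc (attr := simp)]
lemma cmpHom_base (n : ℕ) :
    cmpHom f G n ≫ WidePullback.base _ = G.map (WidePullback.base _) :=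
  WidePullback.lift_base _ _ _ _

/-- the inverse comparison map. -/
def cmpInv (n : ℕ) :
    widePullback (Arrow.mk (G.map f.hom)).right
        (fun _ : Fin (n + 1) => (Arrow.mk (G.map f.hom)).left) (fun _ => (Arrow.mk (G.map f.hom)).hom) ⟶
      G.obj (widePullback f.right (fun _ : Fin (n + 1) => f.left) fun _ => f.hom) :=
  CechRes.liftG f G n
    (WidePullback.base (fun _ : Fin (n + 1) => (Arrow.mk (G.map f.hom)).hom))
    (fun i => WidePullback.π (fun _ : Fin (n + 1) => (Arrow.mk (G.map f.hom)).hom) i)
    (fun i => WidePullback.π_arrow (fun _ : Fin (n + 1) => (Arrow.mk (G.map f.hom)).hom) i)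

/-- the comparison isomorphism in each degree. -/
def cmpIso (n : ℕ) :
    G.obj (widePullback f.right (fun _ : Fin (n + 1) => f.left) fun _ => f.hom) ≅
      widePullback (Arrow.mk (G.map f.hom)).right
        (fun _ : Fin (n + 1) => (Arrow.mk (G.map f.hom)).left) fun _ => (Arrow.mk (G.map f.hom)).hom where
  hom := cmpHom f G n
  inv := cmpInv f G n
  hom_inv_id := by
    apply CechRes.homG_ext
    intro i
    rw [Category.assoc, cmpInv, CechRes.liftG_π, cmpHom_π, Category.id_comp]
  inv_hom_id := by
    apply WidePullback.hom_ext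
    · intro i
      rw [Category.assoc, cmpHom_π, cmpInv, CechRes.liftG_π, Category.id_comp]
    · rw [Category.assoc, cmpHom_base, cmpInv, CechRes.liftG_base, Category.id_comp]

/-- **The Čech nerve commutes with functors preserving the relevant wide pullbacks.** -/
def nerveIso : f.cechNerve ⋙ G ≅ (Arrow.mk (G.map f.hom)).cechNerve :=
  NatIso.ofComponents (fun n => cmpIso f G n.unop.len) (by
    intro n m φ
    apply WidePullback.hom_ext
    · intro i
      simp only [Functor.comp_obj, Functor.comp_map, Arrow.cechNerve_obj, Arrow.cechNerve_map,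
        cmpIso, Category.assoc, cmpHom_π, WidePullback.lift_π, ← G.map_comp, cmpHom_π]
    · simp only [Functor.comp_obj, Functor.comp_map, Arrow.cechNerve_obj, Arrow.cechNerve_map,
        cmpIso, Category.assoc, cmpHom_base, WidePullback.lift_base, ← G.map_comp, cmpHom_base])

end Nerve

section Transfer
open CechFlasque

lemma acyclicAt_of_iso {A : Type*} [Category A] [Preadditive A] {P P' : ChainComplex A ℕ}
    (e : P ≅ P') (G : A) (q : ℕ) (h : AcyclicAt P G q) : AcyclicAt P' G q := by
  intro φ hφ
  obtain ⟨ψ, hψ⟩ := h (e.hom.f (q + 1) ≫ φ) (by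
    rw [← Category.assoc, ← e.hom.comm, Category.assoc, hφ, Limits.comp_zero])
  refine ⟨e.inv.f q ≫ ψ, ?_⟩
  rw [← Category.assoc, ← e.inv.comm, Category.assoc, hψ, ← Category.assoc,
    ← HomologicalComplex.comp_f, e.inv_hom_id, HomologicalComplex.id_f, Category.id_comp]

lemma acyclicAt_of_adj {A B : Type*} [Category A] [Preadditive A] [Category B] [Preadditive B]
    {L : A ⥤ B} {R : B ⥤ A} (adj : L ⊣ R) [L.Additive] (P : ChainComplex A ℕ) (F : B) (q : ℕ)
    (h : AcyclicAt ((L.mapHomologicalComplex _).obj P) F q) : AcyclicAt P (R.obj F) q := by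
  intro φ hφ
  obtain ⟨ψ, hψ⟩ := h ((adj.homEquiv _ _).symm φ) (by
    change L.map (P.d (q + 2) (q + 1)) ≫ _ = 0
    rw [← Adjunction.homEquiv_naturality_left_symm, hφ, Adjunction.homEquiv_symm_apply,
      L.map_zero, Limits.zero_comp])
  refine ⟨adj.homEquiv _ _ ψ, ?_⟩
  rw [← Adjunction.homEquiv_naturality_left]
  exact (congrArg (adj.homEquiv _ _) hψ).trans (Equiv.apply_symm_apply _ _)

end Transfer

section Sheaf
open CechFlasque

variable {C D : Type u} [SmallCategory C] [SmallCategory D]
  (J : GrothendieckTopology C) (K : GrothendieckTopology D) (u : D ⥤ C) [u.IsContinuous K J]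

instance : (u.sheafPullback AddCommGrpCat.{u} K J).Additive :=
  (u.sheafAdjunctionContinuous AddCommGrpCat.{u} K J).left_adjoint_additive

/-- forgetting commutes with direct images. -/
def pushForgetIso : Uf J ⋙ u.sheafPushforwardContinuous (Type u) K J ≅
    u.sheafPushforwardContinuous AddCommGrpCat.{u} K J ⋙ Uf K :=
  NatIso.ofComponents (fun F => Iso.refl _)

/-- `f⁻¹ ℤ[S] ≅ ℤ[f⁻¹ S]`. -/
def pullFreeIso : Φ K ⋙ u.sheafPullback AddCommGrpCat.{u} K J ≅
    u.sheafPullback (Type u) K J ⋙ Φ J :=
  Adjunction.leftAdjointUniq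
    ((adjΦ K).comp (u.sheafAdjunctionContinuous AddCommGrpCat.{u} K J))
    (((u.sheafAdjunctionContinuous (Type u) K J).comp (adjΦ J)).ofNatIsoRight
      (pushForgetIso J K u))

variable [PreservesFiniteLimits (u.sheafPullback (Type u) K J)]

/-- the simplicial comparison. -/
def simpIso {A' A : Sheaf K (Type u)} (f : A' ⟶ A) :
    (Arrow.mk ((u.sheafPullback (Type u) K J).map f)).cechNerve ⋙ Φ J ≅
      ((Arrow.mk f).cechNerve ⋙ Φ K) ⋙ u.sheafPullback AddCommGrpCat.{u} K J :=
  (Functor.isoWhiskerRight (nerveIso (Arrow.mk f) (u.sheafPullback (Type u) K J)).symm (Φ J)) ≪≫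
    Functor.associator _ _ _ ≪≫
    Functor.isoWhiskerLeft _ (pullFreeIso J K u).symm ≪≫ (Functor.associator _ _ _).symm

/-- the comparison of Čech chain complexes. -/
def cechPIso {A' A : Sheaf K (Type u)} (f : A' ⟶ A) :
    cechP J ((u.sheafPullback (Type u) K J).map f) ≅
      ((u.sheafPullback AddCommGrpCat.{u} K J).mapHomologicalComplex _).obj (cechP K f) :=
  (AlgebraicTopology.alternatingFaceMapComplex _).mapIso (simpIso J K u f) ≪≫
    eqToIso (congrArg (fun H => H.obj ((Arrow.mk f).cechNerve ⋙ Φ K))
      (AlgebraicTopology.map_alternatingFaceMapComplex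
        (u.sheafPullback AddCommGrpCat.{u} K J)).symm)

/-- **Direct images preserve Čech-acyclicity (for all epimorphisms of sheaves of sets)** when the
inverse image of sheaves of sets is left exact. -/
theorem cechAcyclic_push (F : Sheaf J AddCommGrpCat.{u}) (hF : CechAcyclic J F) :
    CechAcyclic K ((CohSite.push J K u).obj F) := by
  intro A' A f _ q
  haveI : (u.sheafPullback (Type u) K J).PreservesEpimorphisms :=
    Functor.preservesEpimorphisms_of_adjunction (u.sheafAdjunctionContinuous (Type u) K J)
  have h1 : AcyclicAt (cechP J ((u.sheafPullback (Type u) K J).map f)) F q :=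
    hF ((u.sheafPullback (Type u) K J).map f) q
  exact acyclicAt_of_adj (u.sheafAdjunctionContinuous AddCommGrpCat.{u} K J) _ F q
    (acyclicAt_of_iso (cechPIso J K u f) F q h1)

/-- Direct images preserve total acyclicity. -/
theorem isTotallyAcyclic_push (F : Sheaf J AddCommGrpCat.{u}) (hF : CohCx.IsTotallyAcyclic F) :
    CohCx.IsTotallyAcyclic ((CohSite.push J K u).obj F) :=
  isTotallyAcyclic_of_cechAcyclic K _
    (cechAcyclic_push J K u F (cechAcyclic_of_isTotallyAcyclic J F hF))

lemma isTotallyAcyclic_of_injective (I : Sheaf J AddCommGrpCat.{u}) [Injective I] :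
    CohCx.IsTotallyAcyclic I :=
  fun _ _ => subsingleton_of_forall_eq 0 (fun x => Abelian.Ext.eq_zero_of_injective x)

/-- **The direct image of an injective abelian sheaf is acyclic on every object.** -/
theorem subsingleton_HU_push_of_injective (I : Sheaf J AddCommGrpCat.{u}) (hI : Injective I)
    (V : D) (q : ℕ) : Subsingleton (CohSite.HU ((CohSite.push J K u).obj I) (q + 1) V) :=
  Groth.Agent.Lib.Helper13.FlasqueBasic.subsingleton_HU_of_totallyAcyclic _
    (isTotallyAcyclic_push J K u I (isTotallyAcyclic_of_injective J I)) V q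

end Sheaf

end Groth.Agent.Lib.Helper2.CechTransfer
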