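import Groth.Agent.Lib.Helper13.ExtPresheaf
import Groth.Agent.Lib.Helper13.DerivedCommute
import Mathlib.CategoryTheory.Preadditive.Yoneda.Limits

/-!
# `Hom(X, -)` as an additive functor to abelian groups; its derived functors are `Ext` (helper2)
-/

set_option autoImplicit false
universe v v' u u'

namespace Groth.Agent.Lib.Helper2.GSS

open CategoryTheory CategoryTheory.Limits Opposite CategoryTheory.Abelian
open Groth.Agent.Lib.Helper13.ExtPresheaf Groth.Agent.Lib.Helper13.DerivedCommute

section Preadditive

variable {A : Type u} [Category.{v} A] [Preadditive A]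

/-- The functor `Hom(X, -)` with values in abelian groups. -/
def homF (X : A) : A ⥤ AddCommGrpCat.{v} where
  obj M := AddCommGrpCat.of (X ⟶ M)
  map {M N} f := AddCommGrpCat.ofHom
    { toFun := fun g => g ≫ f
      map_zero' := zero_comp
      map_add' := fun _ _ => Preadditive.add_comp _ _ _ _ _ _ }
  map_id M := by
    ext g
    change g ≫ 𝟙 M = g
    rw [Category.comp_id]
  map_comp {M N K} f f' := by
    ext g
    change g ≫ f ≫ f' = (g ≫ f) ≫ f'
    rw [Category.assoc]

instance (X : A) : (homF X).Additive where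
  map_add {M N f f'} := by
    ext g
    change g ≫ (f + f') = g ≫ f + g ≫ f'
    rw [Preadditive.comp_add]

instance (X : A) : PreservesFiniteLimits (homF X) :=
  preservesFiniteLimits_of_natIso
    (NatIso.ofComponents (fun _ => Iso.refl _) : preadditiveCoyoneda.obj (op X) ≅ homF X)

/-- `Hom(X, -) ≅ Hom(X', -)` for `X ≅ X'`. -/
def homFIsoOfIso {X X' : A} (e : X ≅ X') : homF X ≅ homF X' :=
  NatIso.ofComponents (fun M => AddEquiv.toAddCommGrpIso
    { toFun := fun g => e.inv ≫ g
      invFun := fun g => e.hom ≫ g
      left_inv := fun g => by simp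
      right_inv := fun g => by simp
      map_add' := fun _ _ => Preadditive.comp_add _ _ _ _ _ _ })
    (by
      intro M N f
      ext g
      change e.inv ≫ g ≫ f = (e.inv ≫ g) ≫ f
      rw [Category.assoc])

variable {B : Type u'} [Category.{v} B] [Preadditive B]

/-- For an adjunction `F ⊣ G` of additive functors, `Hom(X, G -) ≅ Hom(F X, -)`. -/
def homFAdjIso {F : A ⥤ B} {G : B ⥤ A} (adj : F ⊣ G) [F.Additive] (X : A) :
    G ⋙ homF X ≅ homF (F.obj X) :=
  NatIso.ofComponents (fun M => AddEquiv.toAddCommGrpIso (adj.homAddEquiv X M).symm)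
    (by
      intro M N f
      ext g
      change (adj.homEquiv X N).symm (g ≫ G.map f) = (adj.homEquiv X M).symm g ≫ f
      rw [Adjunction.homEquiv_naturality_right_symm])

end Preadditive

section Abelian

variable {A : Type u} [Category.{v} A] [Abelian A] [HasExt.{v} A] [HasInjectiveResolutions A]

/-- The right derived functors of `Hom(X, -)` are the `Ext` groups. -/
noncomputable def rightDerivedHomFIso (X F : A) (i : ℕ) :
    ((homF X).rightDerived i).obj F ≅ AddCommGrpCat.of (Ext X F i) :=
  let L : Discrete PUnit.{1} ⥤ A := (Functor.const _).obj X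
  let ev := (evaluation (Discrete PUnit.{1})ᵒᵖ AddCommGrpCat.{v}).obj (op ⟨PUnit.unit⟩)
  let e : homF X ≅ homPre L ⋙ ev := NatIso.ofComponents (fun _ => Iso.refl _)
  rightDerivedObjIsoOfNatIso e i F ≪≫ rightDerivedCompExactObjIso (homPre L) ev i F ≪≫
    ev.mapIso (rightDerivedIso L F i)

end Abelian

end Groth.Agent.Lib.Helper2.GSS
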