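import Groth.Agent.Lib.Helper10.DerLES
import Groth.Agent.Lib.Helper13.DeltaFun
import Groth.Agent.Lib.Helper2.GSS.HomFunctor

/-!
# Right derived functors of `Hom(A, -)`-like functors are `Ext(A, -)`, naturally (helper2)

* `rdDFun G`: the right derived functors of an additive `G : 𝒜 ⥤ Ab` as an elementwise δ-functor (connecting maps from
  helper10's `H10SES.derivedLES`).
* `bijective_of_zero`: a natural bijection in degree `0` between effaceable δ-functors extends to natural bijections in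
  all degrees.
* `nonempty_rightDerived_iso_ext`: if `G ≅ Hom(A, -)` then `RⁿG ≅ Extⁿ(A, -)` as functors.
-/

set_option autoImplicit false
universe w v u

namespace Groth.Agent.Lib.Helper2.DerivedDFun

open CategoryTheory CategoryTheory.Limits Opposite CategoryTheory.Abelian
open Groth.Agent.Lib.Helper13.DeltaFun Groth.Agent.Lib.Helper2.GSS

variable {𝒜 : Type u} [Category.{v} 𝒜] [Abelian 𝒜] [EnoughInjectives 𝒜]

theorem bijective_of_zero {T S : DFun.{w} 𝒜} (hT : Effaceable T) (hS : Effaceable S)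
    (e0 : ∀ P : 𝒜, T.obj P 0 →+ S.obj P 0)
    (h0 : ∀ {P Q : 𝒜} (φ : P ⟶ Q) (x : T.obj P 0), e0 Q (T.map φ 0 x) = S.map φ 0 (e0 P x))
    (hb : ∀ P, Function.Bijective (e0 P)) :
    ∃ e : ∀ (P : 𝒜) (n : ℕ), T.obj P n →+ S.obj P n, IsHom T S e ∧ (∀ P, e P 0 = e0 P) ∧
      ∀ P n, Function.Bijective (e P n) := by
  obtain ⟨e, he, h⟩ := exists_of_zero hT e0 h0
  refine ⟨e, he, h, ?_⟩
  intro P n
  induction n generalizing P with
  | zero => rw [h]; exact hb P
  | succ n ih =>
    exact bijective_step he (ses P) (ses_shortExact P) n (ih _) (ih _).2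
      (fun x => hT (Injective.under P) n x) (fun x => hS (Injective.under P) n x)

section RD

variable (G : 𝒜 ⥤ AddCommGrpCat.{w}) [G.Additive]

/-- right derived functors as an elementwise δ-functor. -/
noncomputable def rdDFun : DFun.{w} 𝒜 where
  obj P n := (G.rightDerived n).obj P
  map φ n := ((G.rightDerived n).map φ).hom
  δ X hX n := ((H10SES.derivedLES G).δ X hX n (n + 1) rfl).hom
  map_id P n x := by
    rw [CategoryTheory.Functor.map_id]
    rfl
  δ_nat {X X'} φ hX hX' n x :=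
    ConcreteCategory.congr_hom ((H10SES.derivedLES G).δ_natural hX hX' φ n (n + 1) rfl) x
  δ_map X hX n x :=
    ConcreteCategory.congr_hom ((H10SES.derivedLES G).comp_δ X hX n (n + 1) rfl) x
  exact₃ X hX n y hy :=
    (ShortComplex.ab_exact_iff _).1 ((H10SES.derivedLES G).exact₃ X hX n (n + 1) rfl) y hy
  exact₁ X hX n y hy :=
    (ShortComplex.ab_exact_iff _).1 ((H10SES.derivedLES G).exact₁ X hX n (n + 1) rfl) y hy

lemma effaceable_rdDFun : Effaceable (rdDFun G) := by
  intro I _ n x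
  have h := Functor.isZero_rightDerived_obj_injective_succ G n I
  have : Subsingleton ((G.rightDerived (n + 1)).obj I) := AddCommGrpCat.subsingleton_of_isZero h
  exact Subsingleton.elim (α := ((G.rightDerived (n + 1)).obj I)) _ _

end RD

section Ext

variable [HasExt.{v} 𝒜] (A : 𝒜)

lemma effaceable_ofExt : Effaceable (ofExt (𝟭 𝒜) A) := by
  intro I _ n x
  exact Ext.eq_zero_of_injective x

variable (G : 𝒜 ⥤ AddCommGrpCat.{v}) [G.Additive] [PreservesFiniteLimits G] (ε : G ≅ homF A)

/-- the comparison in degree `0`. -/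
noncomputable def e0 (P : 𝒜) : (rdDFun G).obj P 0 →+ (ofExt (𝟭 𝒜) A).obj P 0 :=
  ((Ext.addEquiv₀ (X := A) (Y := P)).symm.toAddMonoidHom.comp (ε.hom.app P).hom).comp
    (G.rightDerivedZeroIsoSelf.hom.app P).hom

lemma e0_bijective (P : 𝒜) : Function.Bijective (e0 A G ε P) := by
  have h1 : Function.Bijective (G.rightDerivedZeroIsoSelf.hom.app P).hom :=
    ConcreteCategory.bijective_of_isIso _
  have h2 : Function.Bijective (ε.hom.app P).hom := ConcreteCategory.bijective_of_isIso _
  exact (Ext.addEquiv₀.symm.bijective.comp h2).comp h1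

lemma e0_natural {P Q : 𝒜} (φ : P ⟶ Q) (x : (rdDFun G).obj P 0) :
    e0 A G ε Q ((rdDFun G).map φ 0 x) = (ofExt (𝟭 𝒜) A).map φ 0 (e0 A G ε P x) := by
  have h1 : (G.rightDerivedZeroIsoSelf.hom.app Q).hom (((G.rightDerived 0).map φ).hom x) =
      (G.map φ).hom ((G.rightDerivedZeroIsoSelf.hom.app P).hom x) :=
    ConcreteCategory.congr_hom (G.rightDerivedZeroIsoSelf.hom.naturality φ) x
  have h2 : ∀ y, (ε.hom.app Q).hom ((G.map φ).hom y) = (ε.hom.app P).hom y ≫ φ :=
    fun y => ConcreteCategory.congr_hom (ε.hom.naturality φ) y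
  change Ext.addEquiv₀.symm ((ε.hom.app Q).hom ((G.rightDerivedZeroIsoSelf.hom.app Q).hom
    (((G.rightDerived 0).map φ).hom x))) = _
  rw [h1, h2, ofExt_map_apply]
  change _ = (Ext.addEquiv₀.symm ((ε.hom.app P).hom ((G.rightDerivedZeroIsoSelf.hom.app P).hom x))).comp
    (Ext.mk₀ φ) (add_zero 0)
  rw [Ext.addEquiv₀_symm_apply, Ext.addEquiv₀_symm_apply, Ext.mk₀_comp_mk₀]

include ε in
/-- **`RⁿG ≅ Extⁿ(A, -)` as functors when `G ≅ Hom(A, -)`.** -/
theorem nonempty_rightDerived_iso_ext (n : ℕ) :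
    Nonempty (G.rightDerived n ≅ (extFunctor n).obj (op A)) := by
  obtain ⟨e, he, -, hb⟩ := bijective_of_zero (effaceable_rdDFun G) (effaceable_ofExt A)
    (e0 A G ε) (e0_natural A G ε) (e0_bijective A G ε)
  refine ⟨NatIso.ofComponents
    (fun P => (AddEquiv.ofBijective (e P n) (hb P n)).toAddCommGrpIso) ?_⟩
  intro P Q φ
  ext x
  exact he.natural φ n x

end Ext

end Groth.Agent.Lib.Helper2.DerivedDFun
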