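import Groth.Agent.Lib.Helper2.GSS.FunctorSES
import Groth.Agent.Lib.Helper13.DerivedCommute

/-!
# Natural versions of some comparison isomorphisms for right derived functors (helper2)

* `toRightDerivedZero_naturality`: `F ⟶ R⁰F` is natural in `F`.
* `rightDerivedNatIso`: `F ≅ F'` gives `RⁿF ≅ RⁿF'`.
* `rightDerivedExactCompIso`: `Rⁿ(G' ⋙ F) ≅ G' ⋙ RⁿF` (as functors) for `G'` exact preserving injectives.
-/

set_option autoImplicit false
universe v v' v'' u u' u''

namespace Groth.Agent.Lib.Helper2.NatDerived

open CategoryTheory CategoryTheory.Limits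
open Groth.Agent.Lib.Helper13.DerivedCommute

section Zero

variable {C : Type u} [Category.{v} C] [Abelian C] [HasInjectiveResolutions C]
  {D : Type u'} [Category.{v'} D] [Abelian D]

lemma aux_five {A A' B B' F0 G0 : D} (a : A ⟶ B) (pG : B ⟶ B') (iG : G0 ≅ B') (pF : A ⟶ A')
    (iF : F0 ≅ A') (H : A' ⟶ B') (h : pF ≫ H = a ≫ pG) :
    a ≫ pG ≫ iG.inv = pF ≫ iF.inv ≫ iF.hom ≫ H ≫ iG.inv := by
  rw [Iso.inv_hom_id_assoc, reassoc_of% h]

lemma toRightDerivedZero'_nat {F G : C ⥤ D} [F.Additive] [G.Additive] (β : F ⟶ G) {X : C}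
    (I : InjectiveResolution X) :
    β.app X ≫ I.toRightDerivedZero' G =
      I.toRightDerivedZero' F ≫ HomologicalComplex.cyclesMap
        ((NatTrans.mapHomologicalComplex β (ComplexShape.up ℕ)).app I.cocomplex) 0 := by
  rw [← cancel_mono (HomologicalComplex.iCycles _ _)]
  simp only [Category.assoc, InjectiveResolution.toRightDerivedZero'_comp_iCycles,
    HomologicalComplex.cyclesMap_i, InjectiveResolution.toRightDerivedZero'_comp_iCycles_assoc]
  exact (β.naturality (I.ι.f 0)).symm

/-- `F ⟶ R⁰F` is natural in `F`. -/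
lemma toRightDerivedZero_naturality {F G : C ⥤ D} [F.Additive] [G.Additive] (β : F ⟶ G) (X : C) :
    β.app X ≫ G.toRightDerivedZero.app X =
      F.toRightDerivedZero.app X ≫ (NatTrans.rightDerived β 0).app X := by
  rw [(injectiveResolution X).toRightDerivedZero_eq G, (injectiveResolution X).toRightDerivedZero_eq F,
    InjectiveResolution.rightDerived_app_eq β (injectiveResolution X) 0]
  simp only [Category.assoc, Iso.inv_hom_id_assoc]
  rw [reassoc_of% toRightDerivedZero'_nat β (injectiveResolution X)]
  refine congrArg (fun t => (injectiveResolution X).toRightDerivedZero' F ≫ t) ?_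
  exact aux_five _ _ _ _ _ _ (HomologicalComplex.homologyπ_naturality
    ((NatTrans.mapHomologicalComplex β (ComplexShape.up ℕ)).app (injectiveResolution X).cocomplex) 0)

/-- `F ≅ F'` gives `RⁿF ≅ RⁿF'`. -/
noncomputable def rightDerivedNatIso {F F' : C ⥤ D} [F.Additive] [F'.Additive] (e : F ≅ F') (n : ℕ) :
    F.rightDerived n ≅ F'.rightDerived n where
  hom := NatTrans.rightDerived e.hom n
  inv := NatTrans.rightDerived e.inv n
  hom_inv_id := by
    rw [← NatTrans.rightDerived_comp, e.hom_inv_id, NatTrans.rightDerived_id]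
  inv_hom_id := by
    rw [← NatTrans.rightDerived_comp, e.inv_hom_id, NatTrans.rightDerived_id]

end Zero

section Comp

variable {C' : Type u''} [Category.{v''} C'] [Abelian C'] [HasInjectiveResolutions C']
  {C : Type u} [Category.{v} C] [Abelian C] [HasInjectiveResolutions C]
  {D : Type u'} [Category.{v'} D] [Abelian D]
  (G' : C' ⥤ C) [G'.Additive] [PreservesFiniteLimits G'] [PreservesFiniteColimits G']
  (hG : ∀ (Y : C'), Injective Y → Injective (G'.obj Y))
  (F : C ⥤ D) [F.Additive]

lemma mapInjectiveResolution_comm' {X Y : C'} (f : X ⟶ Y) (IX : InjectiveResolution X)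
    (IY : InjectiveResolution Y) (φ : IX.cocomplex ⟶ IY.cocomplex)
    (comm : IX.ι ≫ φ = (CochainComplex.single₀ C').map f ≫ IY.ι) :
    (mapInjectiveResolution G' hG IX).ι ≫ (G'.mapHomologicalComplex _).map φ =
      (CochainComplex.single₀ C).map (G'.map f) ≫ (mapInjectiveResolution G' hG IY).ι := by
  have hn := (HomologicalComplex.singleMapHomologicalComplex G' (ComplexShape.up ℕ) 0).inv.naturality f
  dsimp only [mapInjectiveResolution]
  rw [Category.assoc, ← Functor.map_comp, comm, Functor.map_comp, ← Category.assoc, ← Category.assoc]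
  congr 1
  exact hn.symm

lemma mapInjectiveResolution_comm {X Y : C'} (f : X ⟶ Y) (IX : InjectiveResolution X)
    (IY : InjectiveResolution Y) (φ : IX.cocomplex ⟶ IY.cocomplex)
    (comm : IX.ι ≫ φ = (CochainComplex.single₀ C').map f ≫ IY.ι) :
    (mapInjectiveResolution G' hG IX).ι.f 0 ≫ ((G'.mapHomologicalComplex _).map φ).f 0 =
      G'.map f ≫ (mapInjectiveResolution G' hG IY).ι.f 0 := by
  have h := HomologicalComplex.congr_hom (mapInjectiveResolution_comm' G' hG f IX IY φ comm) 0
  rw [HomologicalComplex.comp_f, HomologicalComplex.comp_f] at h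
  refine h.trans ?_
  congr 1
  simp

lemma exactComp_naturality (n : ℕ) {X Y : C'} (f : X ⟶ Y) :
    ((G' ⋙ F).rightDerived n).map f ≫ (rightDerivedExactCompObjIso G' hG F n Y).hom =
      (rightDerivedExactCompObjIso G' hG F n X).hom ≫ (F.rightDerived n).map (G'.map f) := by
  have h1 := InjectiveResolution.isoRightDerivedObj_hom_naturality f (injectiveResolution X)
    (injectiveResolution Y) (InjectiveResolution.desc f _ _)
    (InjectiveResolution.desc_commutes_zero f _ _) (G' ⋙ F) n
  have h2 := InjectiveResolution.isoRightDerivedObj_inv_naturality (G'.map f)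
    (mapInjectiveResolution G' hG (injectiveResolution X))
    (mapInjectiveResolution G' hG (injectiveResolution Y))
    ((G'.mapHomologicalComplex _).map (InjectiveResolution.desc f _ _))
    (mapInjectiveResolution_comm G' hG f _ _ _ (InjectiveResolution.desc_commutes f _ _)) F n
  dsimp only [rightDerivedExactCompObjIso, Iso.trans_hom, Iso.symm_hom]
  refine (Category.assoc _ _ _).symm.trans ?_
  refine (congrArg (· ≫ ((mapInjectiveResolution G' hG
    (injectiveResolution Y)).isoRightDerivedObj F n).inv) h1).trans ?_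
  refine (Category.assoc _ _ _).trans ?_
  refine Eq.trans ?_ (Category.assoc _ _ _).symm
  exact congrArg (fun t => ((injectiveResolution X).isoRightDerivedObj (G' ⋙ F) n).hom ≫ t) h2.symm

/-- **`Rⁿ(G' ⋙ F) ≅ G' ⋙ RⁿF`** as functors, for `G'` exact and preserving injectives. -/
noncomputable def rightDerivedExactCompIso (n : ℕ) :
    (G' ⋙ F).rightDerived n ≅ G' ⋙ F.rightDerived n :=
  NatIso.ofComponents (fun X => rightDerivedExactCompObjIso G' hG F n X)
    (fun f => exactComp_naturality G' hG F n f)

end Comp

end Groth.Agent.Lib.Helper2.NatDerived
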