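import Groth.Agent.Lib.Helper2.RDBridge
import Mathlib.Algebra.Homology.HomologySequence
import Mathlib.Algebra.Homology.HomologicalComplexAbelian

/-!
# Right derived functors computed by an exact complex-valued functor (dimension shifting) (helper2)

If `G : 𝒜 ⥤ CochainComplex ℬ ℕ` is exact and `G I` is acyclic in positive degrees for every injective
`I`, then `Rⁿ(H⁰ ∘ G) A ≅ Hⁿ(G A)`.
-/

set_option autoImplicit false
universe v v' u u'

namespace Groth.Agent.Lib.Helper2.GSS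

open CategoryTheory CategoryTheory.Limits
open Groth.Agent.Lib.Helper2.RDBridge

section General

variable {ℬ : Type u'} [Category.{v'} ℬ] [Abelian ℬ]

/-- Two exact sequences `X₁ ⟶ X₂ ⟶ X₃ ⟶ 0` with isomorphic first maps have isomorphic third
terms. -/
lemma nonempty_iso_X₃ (S₁ S₂ : ShortComplex ℬ) (h₁ : S₁.Exact) (h₂ : S₂.Exact)
    (hg₁ : Epi S₁.g) (hg₂ : Epi S₂.g) (e₁ : S₁.X₁ ≅ S₂.X₁) (e₂ : S₁.X₂ ≅ S₂.X₂)
    (comm : e₁.hom ≫ S₂.f = S₁.f ≫ e₂.hom) : Nonempty (S₁.X₃ ≅ S₂.X₃) := by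
  let a₁ : S₁.X₃ ≅ cokernel S₁.f :=
    IsColimit.coconePointUniqueUpToIso h₁.gIsCokernel (colimit.isColimit _)
  let a₂ : S₂.X₃ ≅ cokernel S₂.f :=
    IsColimit.coconePointUniqueUpToIso h₂.gIsCokernel (colimit.isColimit _)
  exact ⟨a₁ ≪≫ cokernel.mapIso S₁.f S₂.f e₁ e₂ comm.symm ≪≫ a₂.symm⟩

end General

variable {𝒜 : Type u} [Category.{v} 𝒜] [Abelian 𝒜] [EnoughInjectives 𝒜]
  {ℬ : Type u'} [Category.{v'} ℬ] [Abelian ℬ]
  (G : 𝒜 ⥤ CochainComplex ℬ ℕ) [G.Additive]

/-- `H⁰ ∘ G`. -/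
noncomputable abbrev H0 : 𝒜 ⥤ ℬ :=
  G ⋙ HomologicalComplex.homologyFunctor ℬ (ComplexShape.up ℕ) 0

variable (hG : ∀ S : ShortComplex 𝒜, S.ShortExact → (S.map G).ShortExact)

include hG in
lemma preservesFiniteLimits_H0 : PreservesFiniteLimits (H0 G) := by
  apply (Functor.preservesFiniteLimits_iff_forall_exact_map_and_mono _).2
  intro S hS
  have hS' := hG S hS
  constructor
  · exact hS'.homology_exact₂ 0
  · haveI : Mono (G.map S.f) := hS'.mono_f
    haveI : Mono ((G.map S.f).f 0) := inferInstance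
    have h := CochainComplex.isoHomologyπ₀_inv_naturality (G.map S.f)
    haveI : Mono (HomologicalComplex.cyclesMap (G.map S.f) 0) := inferInstance
    haveI : Mono ((G.obj S.X₁).isoHomologyπ₀.inv) := inferInstance
    haveI : Mono (HomologicalComplex.homologyMap (G.map S.f) 0 ≫
        (G.obj S.X₂).isoHomologyπ₀.inv) := by
      rw [h]
      exact mono_comp _ _
    change Mono (HomologicalComplex.homologyMap (G.map S.f) 0)
    exact mono_of_mono _ ((G.obj S.X₂).isoHomologyπ₀.inv)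

/-- The short exact sequence `0 ⟶ A ⟶ I ⟶ Q ⟶ 0` with `I` injective. -/
noncomputable def injSC (A : 𝒜) : ShortComplex 𝒜 :=
  ShortComplex.mk (Injective.ι A) (cokernel.π (Injective.ι A)) (cokernel.condition _)

lemma injSC_shortExact (A : 𝒜) : (injSC A).ShortExact where
  exact := ShortComplex.exact_cokernel _
  mono_f := inferInstanceAs (Mono (Injective.ι A))
  epi_g := inferInstanceAs (Epi (cokernel.π (Injective.ι A)))

instance (A : 𝒜) : Injective (injSC A).X₂ := inferInstanceAs (Injective (Injective.under A))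

include hG in
theorem nonempty_rightDerived_iso_homology
    (hI : ∀ (I : 𝒜), Injective I → ∀ n : ℕ, IsZero ((G.obj I).homology (n + 1))) :
    ∀ (n : ℕ) (A : 𝒜), Nonempty (((H0 G).rightDerived n).obj A ≅ (G.obj A).homology n) := by
  haveI := preservesFiniteLimits_H0 G hG
  have key : ∀ (n : ℕ), (∀ A : 𝒜, Nonempty (((H0 G).rightDerived (n + 1)).obj A ≅
      (G.obj A).homology (n + 1))) → ∀ A : 𝒜, Nonempty (((H0 G).rightDerived (n + 2)).obj A ≅
      (G.obj A).homology (n + 2)) := by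
    intro n ih A
    have hS := injSC_shortExact A
    have hS' := hG _ hS
    obtain ⟨δ, z1, z2, z3, e1, e2, e3⟩ := rightDerived_les' (H0 G) (injSC A) hS (n + 1)
    haveI : Mono δ := e2.mono_g
      (((H0 G).isZero_rightDerived_obj_injective_succ n (injSC A).X₂).eq_of_src _ _)
    haveI : Epi δ := e3.epi_f
      (((H0 G).isZero_rightDerived_obj_injective_succ (n + 1) (injSC A).X₂).eq_of_tgt _ _)
    haveI : IsIso δ := isIso_of_mono_of_epi δ
    obtain ⟨eQ⟩ := ih (injSC A).X₃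
    exact ⟨(asIso δ).symm ≪≫ eQ ≪≫
      hS'.δIso (n + 1) (n + 2) rfl (hI _ inferInstance n) (hI _ inferInstance (n + 1))⟩
  intro n
  induction n using Nat.twoStepInduction with
  | zero => exact fun A => ⟨(H0 G).rightDerivedZeroIsoSelf.app A⟩
  | one =>
    intro A
    have hS := injSC_shortExact A
    have hS' := hG _ hS
    obtain ⟨δ, z1, z2, z3, e1, e2, e3⟩ := rightDerived_les' (H0 G) (injSC A) hS 0
    have hδ : Epi δ := e3.epi_f
      (((H0 G).isZero_rightDerived_obj_injective_succ 0 (injSC A).X₂).eq_of_tgt _ _)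
    have e2' := hS'.homology_exact₃ 0 1 rfl
    have hδ' : Epi (hS'.δ 0 1 rfl) := hS'.epi_δ 0 1 rfl (hI _ inferInstance 0)
    exact nonempty_iso_X₃ _ _ e2 e2' hδ hδ'
      ((H0 G).rightDerivedZeroIsoSelf.app _) ((H0 G).rightDerivedZeroIsoSelf.app _)
      ((H0 G).rightDerivedZeroIsoSelf.hom.naturality (injSC A).g).symm
  | more n _ ih => exact key n ih

end Groth.Agent.Lib.Helper2.GSS
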