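import Groth.Agent.Lib.Helper2.RDBridge
import Mathlib.Algebra.Homology.DerivedCategory.Ext.ExactSequences

/-!
# Dimension shifting as an equivalence of vanishing statements (helper2)
-/

set_option autoImplicit false
universe w v v' u u'

namespace Groth.Agent.Lib.Helper2.DimShiftIff

open CategoryTheory CategoryTheory.Limits CategoryTheory.Abelian
open Groth.Agent.Lib.Helper2.RDBridge

section RD

variable {C : Type u} [Category.{v} C] [Abelian C] [EnoughInjectives C]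
  {D : Type u'} [Category.{v'} D] [Abelian D] (F : C ⥤ D) [F.Additive]

/-- if `RᵏF(X₂) = 0 = Rᵏ⁺¹F(X₂)` then `RᵏF(X₃) ≅ Rᵏ⁺¹F(X₁)`. -/
theorem nonempty_iso_of_isZero (S : ShortComplex C) (hS : S.ShortExact) (k : ℕ)
    (h0 : IsZero ((F.rightDerived k).obj S.X₂)) (h1 : IsZero ((F.rightDerived (k + 1)).obj S.X₂)) :
    Nonempty ((F.rightDerived k).obj S.X₃ ≅ (F.rightDerived (k + 1)).obj S.X₁) := by
  obtain ⟨δ, z1, z2, z3, -, e2, e3⟩ := rightDerived_les' F S hS k
  have hm : Mono δ := e2.mono_g (h0.eq_of_src _ _)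
  have he : Epi δ := e3.epi_f (h1.eq_of_tgt _ _)
  have : IsIso δ := isIso_of_mono_of_epi δ
  exact ⟨asIso δ⟩

theorem isZero_iff_of_isZero (S : ShortComplex C) (hS : S.ShortExact) (k : ℕ)
    (h0 : IsZero ((F.rightDerived k).obj S.X₂)) (h1 : IsZero ((F.rightDerived (k + 1)).obj S.X₂)) :
    IsZero ((F.rightDerived k).obj S.X₃) ↔ IsZero ((F.rightDerived (k + 1)).obj S.X₁) := by
  obtain ⟨e⟩ := nonempty_iso_of_isZero F S hS k h0 h1
  exact e.isZero_iff

/-- `R⁰F(X₁) = 0` if `R⁰F(X₂) = 0`. -/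
theorem isZero_zero_of_isZero (S : ShortComplex C) (hS : S.ShortExact)
    (h0 : IsZero ((F.rightDerived 0).obj S.X₂)) : IsZero ((F.rightDerived 0).obj S.X₁) := by
  have := rightDerived_zero_map_mono' F S hS
  exact IsZero.of_mono_eq_zero ((F.rightDerived 0).map S.f) (h0.eq_of_tgt _ _)

end RD

section ExtS

variable {C : Type u} [Category.{v} C] [Abelian C] [HasExt.{w} C]

theorem ext_subsingleton_iff (A : C) (S : ShortComplex C) (hS : S.ShortExact) (k : ℕ)
    (h0 : Subsingleton (Ext A S.X₂ k)) (h1 : Subsingleton (Ext A S.X₂ (k + 1))) :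
    Subsingleton (Ext A S.X₃ k) ↔ Subsingleton (Ext A S.X₁ (k + 1)) := by
  constructor
  · intro h
    refine subsingleton_of_forall_eq 0 (fun x₁ => ?_)
    obtain ⟨x₃, hx₃⟩ := Ext.covariant_sequence_exact₁ A hS x₁ (Subsingleton.elim _ _) rfl
    rw [← hx₃, Subsingleton.elim x₃ 0, Ext.zero_comp]
  · intro h
    refine subsingleton_of_forall_eq 0 (fun x₃ => ?_)
    obtain ⟨x₂, hx₂⟩ := Ext.covariant_sequence_exact₃ A hS x₃ rfl (Subsingleton.elim _ _)
    rw [← hx₂, Subsingleton.elim x₂ 0, Ext.zero_comp]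

theorem ext_zero_subsingleton (A : C) (S : ShortComplex C) (hS : S.ShortExact)
    (h0 : Subsingleton (Ext A S.X₂ 0)) : Subsingleton (Ext A S.X₁ 0) := by
  have := hS.mono_f
  refine subsingleton_of_forall_eq 0 (fun x => ?_)
  obtain ⟨f, rfl⟩ := (Ext.mk₀_bijective _ _).2 x
  have h : Ext.mk₀ (f ≫ S.f) = 0 := Subsingleton.elim _ _
  have h2 : f ≫ S.f = 0 := by
    apply (Ext.mk₀_bijective A S.X₂).1
    rw [h, Ext.mk₀_zero]
  have h3 : f = 0 := by
    rw [← cancel_mono S.f, h2, zero_comp]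
  rw [h3, Ext.mk₀_zero]

end ExtS

end Groth.Agent.Lib.Helper2.DimShiftIff
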