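import Groth.Agent.Lib.Helper2.GSS.NatDerived

/-!
# Low degree part of the long exact sequence of a short exact sequence of functors (helper2)

With the notation of `FunctorSES`: if `R¹T₂ = 0`, then `R¹T₁ ≅ coker (β : T₂ ⟶ T₃)` in the functor category
(for left exact `T₂`, `T₃`).
-/

set_option autoImplicit false
universe v v' u u'

namespace Groth.Agent.Lib.Helper2.FunctorSES

open CategoryTheory CategoryTheory.Limits

section General

variable {𝒜 : Type u} [Category.{v} 𝒜] {ℬ : Type u'} [Category.{v'} ℬ] [Abelian ℬ]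

/-- a morphism of functors which is pointwise "the cokernel" is a cokernel. -/
theorem isIso_cokernel_desc_of_pointwise {T₂ T₃ R : 𝒜 ⥤ ℬ} (β : T₂ ⟶ T₃) (g : T₃ ⟶ R)
    (w : β ≫ g = 0)
    (hex : ∀ X, (ShortComplex.mk (β.app X) (g.app X)
      (by rw [← NatTrans.comp_app, w]; rfl)).Exact)
    (hepi : ∀ X, Epi (g.app X)) : IsIso (cokernel.desc β g w) := by
  haveI : ∀ X, IsIso ((cokernel.desc β g w).app X) := by
    intro X
    have h1 := cokernelComparison_map_desc (f := β) (G := (evaluation 𝒜 ℬ).obj X) w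
    have hm : Mono (cokernel.desc (β.app X) (g.app X) (by rw [← NatTrans.comp_app, w]; rfl)) :=
      (hex X).mono_cokernelDesc
    have he : Epi (cokernel.desc (β.app X) (g.app X) (by rw [← NatTrans.comp_app, w]; rfl)) := by
      haveI := hepi X
      exact epi_of_epi_fac (cokernel.π_desc (β.app X) (g.app X) _)
    haveI : IsIso (cokernel.desc (β.app X) (g.app X) (by rw [← NatTrans.comp_app, w]; rfl)) :=
      isIso_of_mono_of_epi _
    have h2 : (cokernel.desc β g w).app X =
        inv (cokernelComparison β ((evaluation 𝒜 ℬ).obj X)) ≫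
          cokernel.desc (β.app X) (g.app X) (by rw [← NatTrans.comp_app, w]; rfl) := by
      rw [IsIso.eq_inv_comp]
      exact h1
    rw [h2]
    infer_instance
  exact NatIso.isIso_of_isIso_app _

end General

variable {𝒜 : Type u} [Category.{v} 𝒜] [Abelian 𝒜] [HasInjectiveResolutions 𝒜]
  {ℬ : Type u'} [Category.{v'} ℬ] [Abelian ℬ]
  {T₁ T₂ T₃ : 𝒜 ⥤ ℬ} [T₁.Additive] [T₂.Additive] [T₃.Additive]
  (α : T₁ ⟶ T₂) (β : T₂ ⟶ T₃) (hαβ : α ≫ β = 0)
  (hI : ∀ I : 𝒜, Injective I →
    (ShortComplex.mk (α.app I) (β.app I) (app_comp_app α β hαβ I)).ShortExact)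

/-- the map `T₃ ⟶ R¹T₁`. -/
noncomputable def delta0 : T₃ ⟶ T₁.rightDerived 1 :=
  T₃.toRightDerivedZero ≫ delta α β hαβ hI 0

include hI in
lemma comp_delta0 : β ≫ delta0 α β hαβ hI = 0 := by
  ext X
  change β.app X ≫ T₃.toRightDerivedZero.app X ≫ (delta α β hαβ hI 0).app X = 0
  rw [← Category.assoc, NatDerived.toRightDerivedZero_naturality, Category.assoc,
    rd_comp_delta, comp_zero]

variable [PreservesFiniteLimits T₂] [PreservesFiniteLimits T₃]

include hI in
lemma exact_delta0 (X : 𝒜) :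
    (ShortComplex.mk (β.app X) ((delta0 α β hαβ hI).app X)
      (by rw [← NatTrans.comp_app, comp_delta0]; rfl)).Exact := by
  have h := exact₃ α β hαβ hI 0 X
  have e : ShortComplex.mk (β.app X) ((delta0 α β hαβ hI).app X)
      (by rw [← NatTrans.comp_app, comp_delta0]; rfl) ≅
      ShortComplex.mk ((NatTrans.rightDerived β 0).app X) ((delta α β hαβ hI 0).app X)
        (rd_comp_delta α β hαβ hI 0 X) :=
    ShortComplex.isoMk
      (asIso (T₂.toRightDerivedZero.app X)) (asIso (T₃.toRightDerivedZero.app X)) (Iso.refl _)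
      (NatDerived.toRightDerivedZero_naturality β X).symm
      (by
        dsimp only [asIso_hom, Iso.refl_hom]
        rw [Category.comp_id]
        rfl)
  exact (ShortComplex.exact_iff_of_iso e).2 h

include hI in
lemma epi_delta0 (X : 𝒜) (h : IsZero ((T₂.rightDerived 1).obj X)) :
    Epi ((delta0 α β hαβ hI).app X) := by
  haveI := epi_delta_app α β hαβ hI 0 X h
  change Epi (T₃.toRightDerivedZero.app X ≫ (delta α β hαβ hI 0).app X)
  infer_instance

include hI in
/-- **`R¹T₁ ≅ coker (T₂ ⟶ T₃)`** when `R¹T₂ = 0`. -/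
theorem isIso_cokernel_desc_delta0 (h : ∀ X, IsZero ((T₂.rightDerived 1).obj X)) :
    IsIso (cokernel.desc β (delta0 α β hαβ hI) (comp_delta0 α β hαβ hI)) :=
  isIso_cokernel_desc_of_pointwise β _ _ (exact_delta0 α β hαβ hI)
    (fun X => epi_delta0 α β hαβ hI X (h X))

end Groth.Agent.Lib.Helper2.FunctorSES
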