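import Groth.Agent.Lib.Helper2.GSS.DimShift

/-!
# Classes of acyclic objects for a left exact functor (helper2)

If a class `Q` of objects contains the injectives, is closed under cokernels of monomorphisms between
members, and `T` is exact on short exact sequences starting with a member, then `Rⁿ⁺¹T` vanishes on `Q`.
-/

set_option autoImplicit false
universe v v' u u'

namespace Groth.Agent.Lib.Helper2.GSS

open CategoryTheory CategoryTheory.Limits
open Groth.Agent.Lib.Helper2.RDBridge

variable {𝒜 : Type u} [Category.{v} 𝒜] [Abelian 𝒜] [EnoughInjectives 𝒜]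
  {ℬ : Type u'} [Category.{v'} ℬ] [Abelian ℬ]
  (T : 𝒜 ⥤ ℬ) [T.Additive] [PreservesFiniteLimits T]

theorem isZero_rightDerived_of_class (Q : 𝒜 → Prop)
    (h_inj : ∀ I : 𝒜, Injective I → Q I)
    (h_coker : ∀ S : ShortComplex 𝒜, S.ShortExact → Q S.X₁ → Q S.X₂ → Q S.X₃)
    (h_epi : ∀ S : ShortComplex 𝒜, S.ShortExact → Q S.X₁ → Epi (T.map S.g)) :
    ∀ (n : ℕ) (A : 𝒜), Q A → IsZero ((T.rightDerived (n + 1)).obj A) := by
  intro n
  induction n with
  | zero =>
    intro A hA
    have hS := injSC_shortExact A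
    obtain ⟨δ, z1, z2, z3, e1, e2, e3⟩ := rightDerived_les' T (injSC A) hS 0
    have hδ : Epi δ := e3.epi_f
      ((T.isZero_rightDerived_obj_injective_succ 0 (injSC A).X₂).eq_of_tgt _ _)
    haveI : Epi (T.map (injSC A).g) := h_epi _ hS hA
    have hepi : Epi ((T.rightDerived 0).map (injSC A).g) := by
      have hn := T.rightDerivedZeroIsoSelf.hom.naturality (injSC A).g
      have h1 : (T.rightDerived 0).map (injSC A).g =
          T.rightDerivedZeroIsoSelf.hom.app _ ≫ T.map (injSC A).g ≫
            T.rightDerivedZeroIsoSelf.inv.app _ := by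
        rw [← Category.assoc, ← hn, Category.assoc, Iso.hom_inv_id_app, Category.comp_id]
      rw [h1]
      infer_instance
    have hδ0 : δ = 0 := by
      rw [← cancel_epi ((T.rightDerived 0).map (injSC A).g), z2, comp_zero]
    refine (IsZero.iff_id_eq_zero _).2 ?_
    refine (cancel_epi δ).1 ?_
    rw [hδ0, zero_comp, zero_comp]
  | succ n ih =>
    intro A hA
    have hS := injSC_shortExact A
    obtain ⟨δ, z1, z2, z3, e1, e2, e3⟩ := rightDerived_les' T (injSC A) hS (n + 1)
    have hδ : Epi δ := e3.epi_f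
      ((T.isZero_rightDerived_obj_injective_succ (n + 1) (injSC A).X₂).eq_of_tgt _ _)
    have h3 : Q (injSC A).X₃ := h_coker _ hS hA (h_inj _ inferInstance)
    have hz := ih (injSC A).X₃ h3
    have hδ0 : δ = 0 := hz.eq_of_src _ _
    refine (IsZero.iff_id_eq_zero _).2 ?_
    refine (cancel_epi δ).1 ?_
    rw [hδ0, zero_comp, zero_comp]

end Groth.Agent.Lib.Helper2.GSS
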