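import Groth.Agent.Lib.Helper2.GSS.Main
import Groth.Agent.Lib.Helper13.DerivedPush

set_option autoImplicit false
universe u

namespace Groth.Agent.Lib.Helper2.GSS

open CategoryTheory CategoryTheory.Limits Opposite
open scoped ZeroObject
open Groth.Agent.Lib.Helper13.DerivedPush Groth.Agent.Lib.Helper13.DerivedCommute

variable {C D B : Type u} [SmallCategory C] [SmallCategory D] [SmallCategory B]
  (J : GrothendieckTopology C) (K : GrothendieckTopology D) (L : GrothendieckTopology B)
  (u : D ⥤ C) [u.IsContinuous K J] (w : B ⥤ D) [w.IsContinuous L K]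

example : PreservesFiniteLimits (CohSite.push K L w) := inferInstance

/-- If all higher cohomology groups of `F` on objects `w V` vanish, then `R^q w_* F = 0`. -/
lemma isZero_Rpush_of_subsingleton (F : Sheaf K AddCommGrpCat.{u}) (q : ℕ)
    (h : ∀ V : B, Subsingleton (CohSite.HU F q (w.obj V))) :
    IsZero ((CohSite.Rpush K L w q).obj F) := by
  refine IsZero.of_iso ?_ (RpushIso K L w F q)
  refine Functor.map_isZero _ ?_
  refine Functor.isZero _ (fun V => ?_)
  haveI : Subsingleton ((w.op ⋙ F.cohomologyPresheaf q).obj V) := h V.unop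
  exact AddCommGrpCat.isZero_of_subsingleton _

/-- The relative Leray spectral sequence, assuming that `u_*` of an injective sheaf is acyclic on
every object. -/
theorem relative_leray [(w ⋙ u).IsContinuous L J]
    (hacyc : ∀ (I : Sheaf J AddCommGrpCat.{u}), Injective I → ∀ (V : D) (q : ℕ),
      Subsingleton (CohSite.HU ((CohSite.push J K u).obj I) (q + 1) V))
    (M : Sheaf J AddCommGrpCat.{u}) :
    ∃ (E : E₂CohomologicalSpectralSequence (Sheaf L AddCommGrpCat.{u}))
      (a : SpSeq.Abutment E (fun n : ℤ =>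
        if 0 ≤ n then (CohSite.Rpush J L (w ⋙ u) n.toNat).obj M else 0)),
      (∀ n, a.IsFinite n) ∧ SpSeq.IsBounded E ∧
      ∀ p q : ℤ, Nonempty ((E.page 2 le_rfl).X (p, q) ≅
        (if 0 ≤ p ∧ 0 ≤ q then
          (CohSite.Rpush K L w p.toNat).obj ((CohSite.Rpush J K u q.toNat).obj M) else 0)) := by
  refine grothendieck_ss_ite (CohSite.push J K u) (CohSite.push K L w) ?_ M
    (fun n => (CohSite.Rpush J L (w ⋙ u) n).obj M) ?_
    (fun p q => (CohSite.Rpush K L w p).obj ((CohSite.Rpush J K u q).obj M))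
    (fun _ _ => ⟨Iso.refl _⟩) 0 0 (isZero_zero _) (isZero_zero _)
  · intro Q hQ q hq
    obtain ⟨q', rfl⟩ : ∃ q', q = q' + 1 := ⟨q - 1, by omega⟩
    exact isZero_Rpush_of_subsingleton K L w _ _ (fun V => hacyc Q hQ (w.obj V) q')
  · intro n
    let e : CohSite.push J L (w ⋙ u) ≅ CohSite.push J K u ⋙ CohSite.push K L w :=
      NatIso.ofComponents (fun _ => Iso.refl _)
    exact ⟨rightDerivedObjIsoOfNatIso e n M⟩

section Sections

/-- Sections over `V`, as a functor on abelian sheaves. -/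
noncomputable abbrev secF (V : D) : Sheaf K AddCommGrpCat.{u} ⥤ AddCommGrpCat.{u} :=
  sheafToPresheaf K AddCommGrpCat.{u} ⋙ (evaluation Dᵒᵖ AddCommGrpCat.{u}).obj (op V)

/-- `Rᵖ Γ(V, -) ≅ Hᵖ(V, -)`. -/
noncomputable def rightDerivedSecIso (V : D) (F : Sheaf K AddCommGrpCat.{u}) (p : ℕ) :
    ((secF K V).rightDerived p).obj F ≅ Sheaf.H' F p V :=
  rightDerivedCompExactObjIso (sheafToPresheaf K AddCommGrpCat.{u})
      ((evaluation Dᵒᵖ AddCommGrpCat.{u}).obj (op V)) p F ≪≫
    ((evaluation Dᵒᵖ AddCommGrpCat.{u}).obj (op V)).mapIso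
      (rightDerivedSheafToPresheafIso K F p)

end Sections

/-- The Leray spectral sequence, assuming that `u_*` of an injective sheaf is acyclic on
every object. -/
theorem leray_sections
    (hacyc : ∀ (I : Sheaf J AddCommGrpCat.{u}), Injective I → ∀ (V : D) (q : ℕ),
      Subsingleton (CohSite.HU ((CohSite.push J K u).obj I) (q + 1) V))
    (M : Sheaf J AddCommGrpCat.{u}) (V : D) :
    ∃ (E : E₂CohomologicalSpectralSequence AddCommGrpCat.{u})
      (a : SpSeq.Abutment E (fun n : ℤ =>
        if 0 ≤ n then AddCommGrpCat.of (CohSite.HU M n.toNat (u.obj V))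
        else AddCommGrpCat.of PUnit.{u + 1})),
      (∀ n, a.IsFinite n) ∧ SpSeq.IsBounded E ∧
      ∀ p q : ℤ, Nonempty ((E.page 2 le_rfl).X (p, q) ≅
        (if 0 ≤ p ∧ 0 ≤ q then
          AddCommGrpCat.of (CohSite.HU ((CohSite.Rpush J K u q.toNat).obj M) p.toNat V)
         else AddCommGrpCat.of PUnit.{u + 1})) := by
  refine grothendieck_ss_ite (CohSite.push J K u) (secF K V) ?_ M
    (fun n => AddCommGrpCat.of (CohSite.HU M n (u.obj V))) ?_
    (fun p q => AddCommGrpCat.of (CohSite.HU ((CohSite.Rpush J K u q).obj M) p V)) ?_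
    (AddCommGrpCat.of PUnit.{u + 1}) (AddCommGrpCat.of PUnit.{u + 1})
    (AddCommGrpCat.isZero_of_subsingleton _) (AddCommGrpCat.isZero_of_subsingleton _)
  · intro Q hQ q hq
    obtain ⟨q', rfl⟩ : ∃ q', q = q' + 1 := ⟨q - 1, by omega⟩
    refine IsZero.of_iso ?_ (rightDerivedSecIso K V _ (q' + 1))
    haveI : Subsingleton (Sheaf.H' ((CohSite.push J K u).obj Q) (q' + 1) V) := hacyc Q hQ V q'
    exact AddCommGrpCat.isZero_of_subsingleton _
  · intro n
    let e : CohSite.push J K u ⋙ secF K V ≅ secF J (u.obj V) :=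
      NatIso.ofComponents (fun _ => Iso.refl _)
    exact ⟨(rightDerivedSecIso J (u.obj V) M n).symm ≪≫
      (rightDerivedObjIsoOfNatIso e n M).symm⟩
  · intro p q
    exact ⟨(rightDerivedSecIso K V _ p).symm⟩

end Groth.Agent.Lib.Helper2.GSS
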