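import Groth.Agent.Lib.Helper2.GSS.Identify

/-!
# The Grothendieck spectral sequence, general forms (helper2)

* `grothendieck_ss`: for additive `T : C ⥤ C'`, `S : C' ⥤ C''` (`S` left exact, `T` sending injectives
  to `S`-acyclics) and any family `H n` with `H n ≅ Rⁿ(T ⋙ S) A` (`n ≥ 0`), `H n = 0` (`n < 0`).
* `grothendieck_ss_ite`: the same in the `if 0 ≤ n then … else …` shape used by the statements.
-/

set_option autoImplicit false
universe v v' v'' u u' u''

namespace Groth.Agent.Lib.Helper2.GSS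

open CategoryTheory CategoryTheory.Limits
open Groth.Agent.Lib.Helper2.RDBridge

variable {C : Type u} {C' : Type u'} {C'' : Type u''} [Category.{v} C] [Category.{v'} C']
  [Category.{v''} C''] [Abelian C] [Abelian C'] [Abelian C'']
  [HasInjectiveResolutions C] [HasInjectiveResolutions C']
  (T : C ⥤ C') [T.Additive] (S : C' ⥤ C'') [S.Additive] [PreservesFiniteLimits S]

theorem grothendieck_ss
    (hT : ∀ Q : C, Injective Q → ∀ q : ℕ, 0 < q → IsZero ((S.rightDerived q).obj (T.obj Q)))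
    (A : C) (H : ℤ → C'')
    (hH : ∀ n : ℕ, Nonempty (H (n : ℤ) ≅ ((T ⋙ S).rightDerived n).obj A))
    (hH' : ∀ n : ℤ, n < 0 → IsZero (H n)) :
    ∃ (E : E₂CohomologicalSpectralSequence C'') (a : SpSeq.Abutment E H),
      (∀ n, a.IsFinite n) ∧ SpSeq.IsBounded E ∧
      (∀ p q : ℕ, Nonempty ((E.page 2 le_rfl).X ((p : ℤ), (q : ℤ)) ≅
        (S.rightDerived p).obj ((T.rightDerived q).obj A))) ∧
      (∀ p q : ℤ, (p < 0 ∨ q < 0) → IsZero ((E.page 2 le_rfl).X (p, q))) := by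
  haveI : EnoughInjectives C' :=
    ⟨fun X => ⟨⟨(injectiveResolution X).cocomplex.X 0, inferInstance,
      (injectiveResolution X).ι.f 0,
      inferInstanceAs (Mono ((injectiveResolution X).ι.f 0))⟩⟩⟩
  letI : HasDerivedCategory.{max u' v'} C' := HasDerivedCategory.standard C'
  let I : InjectiveResolution A := injectiveResolution A
  let K₀ : CochainComplex C' ℤ :=
    (T.mapHomologicalComplex (ComplexShape.up ℤ)).obj I.cochainComplex
  haveI : CochainComplex.IsStrictlyGE K₀ 0 := inferInstance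
  let K : CochainComplex.Plus C' := ⟨K₀, ⟨0, inferInstance⟩⟩
  haveI : CochainComplex.IsStrictlyGE K.obj 0 :=
    inferInstanceAs (CochainComplex.IsStrictlyGE K₀ 0)
  have hK : ∀ m, RAcyc S (K.obj.X m) := fun m i hi =>
    hT (I.cochainComplex.X m) inferInstance i hi
  haveI : CochainComplex.IsStrictlyGE
      ((S.mapHomologicalComplex (ComplexShape.up ℤ)).obj K.obj) 0 := inferInstance
  have hH₂ : ∀ n : ℤ, Nonempty (H n ≅
      ((S.mapHomologicalComplex (ComplexShape.up ℤ)).obj K.obj).homology n) := by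
    intro n
    by_cases hn : 0 ≤ n
    · obtain ⟨k, rfl⟩ := Int.eq_ofNat_of_zero_le hn
      obtain ⟨e⟩ := hH k
      exact ⟨e ≪≫ (homologyIsoRightDerived (T ⋙ S) I k).symm⟩
    · refine ⟨IsZero.iso (hH' n (by omega)) ?_⟩
      exact ShortComplex.isZero_homology_of_isZero_X₂ _
        (CochainComplex.isZero_of_isStrictlyGE
          ((S.mapHomologicalComplex (ComplexShape.up ℤ)).obj K.obj) 0 n (by omega))
  obtain ⟨E, a, ha, hE, h2, h0⟩ := exists_spectralSequence S K hK H hH₂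
  refine ⟨E, a, ha, hE, ?_, h0⟩
  intro p q
  obtain ⟨e⟩ := h2 p q
  exact ⟨e ≪≫ (S.rightDerived p).mapIso (homologyIsoRightDerived T I q)⟩

/-- The `if … then … else …` shape used in the statements. -/
theorem grothendieck_ss_ite
    (hT : ∀ Q : C, Injective Q → ∀ q : ℕ, 0 < q → IsZero ((S.rightDerived q).obj (T.obj Q)))
    (A : C) (R : ℕ → C'') (hR : ∀ n : ℕ, Nonempty (R n ≅ ((T ⋙ S).rightDerived n).obj A))
    (E2 : ℕ → ℕ → C'')
    (hE2 : ∀ p q : ℕ, Nonempty (E2 p q ≅ (S.rightDerived p).obj ((T.rightDerived q).obj A)))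
    (Z Z' : C'') (hZ : IsZero Z) (hZ' : IsZero Z') :
    ∃ (E : E₂CohomologicalSpectralSequence C'')
      (a : SpSeq.Abutment E (fun n : ℤ => if 0 ≤ n then R n.toNat else Z)),
      (∀ n, a.IsFinite n) ∧ SpSeq.IsBounded E ∧
      ∀ p q : ℤ, Nonempty ((E.page 2 le_rfl).X (p, q) ≅
        (if 0 ≤ p ∧ 0 ≤ q then E2 p.toNat q.toNat else Z')) := by
  obtain ⟨E, a, ha, hE, h2, h0⟩ := grothendieck_ss T S hT A
    (fun n : ℤ => if 0 ≤ n then R n.toNat else Z)
    (fun n => by
      obtain ⟨e⟩ := hR n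
      refine ⟨?_ ≪≫ e⟩
      have h : (0 : ℤ) ≤ (n : ℤ) := Int.natCast_nonneg n
      simp only [h, if_true, Int.toNat_natCast]
      exact Iso.refl _)
    (fun n hn => by
      have h : ¬ (0 : ℤ) ≤ n := by omega
      simp only [h, if_false]
      exact hZ)
  refine ⟨E, a, ha, hE, ?_⟩
  intro p q
  by_cases hpq : 0 ≤ p ∧ 0 ≤ q
  · obtain ⟨p', rfl⟩ := Int.eq_ofNat_of_zero_le hpq.1
    obtain ⟨q', rfl⟩ := Int.eq_ofNat_of_zero_le hpq.2
    rw [if_pos hpq, Int.toNat_natCast, Int.toNat_natCast]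
    obtain ⟨e⟩ := h2 p' q'
    obtain ⟨e'⟩ := hE2 p' q'
    exact ⟨e ≪≫ e'.symm⟩
  · rw [if_neg hpq]
    refine ⟨IsZero.iso (h0 p q ?_) hZ'⟩
    rw [not_and_or, not_le, not_le] at hpq
    exact hpq

end Groth.Agent.Lib.Helper2.GSS
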