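import Mathlib.Algebra.Homology.SpectralObject.SpectralSequence
import Mathlib.Algebra.Homology.SpectralObject.EpiMono
import Mathlib.CategoryTheory.Subobject.Limits
import Mathlib.CategoryTheory.Abelian.Basic

/-!
# The filtration on the abutment of a spectral object indexed by `EInt` (helper2)

For a spectral object `Y` indexed by `EInt` in an abelian category, we filter `Hⁿ(⊥ ≤ ⊤)` by the
kernels `F j` of the maps `Hⁿ(⊥ ≤ ⊤) ⟶ Hⁿ(j ≤ ⊤)` and identify `F j' / F j` with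
`Eⁿ(⊥ ≤ j ≤ j' ≤ ⊤)`.
-/

set_option autoImplicit false

namespace Groth.Agent.Lib.Helper2.GSS

open CategoryTheory CategoryTheory.Limits ComposableArrows

variable {C : Type*} [Category C] [Abelian C] (Y : Abelian.SpectralObject C EInt)

/-- The abutment `Hⁿ(⊥ ≤ ⊤)`. -/
noncomputable abbrev abut (n : ℤ) : C :=
  (Y.H n).obj (mk₁ (homOfLE (bot_le : (⊥ : EInt) ≤ ⊤)))

/-- The map `Hⁿ(⊥ ≤ ⊤) ⟶ Hⁿ(j ≤ ⊤)`. -/
noncomputable def ρ (n : ℤ) (j : EInt) :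
    abut Y n ⟶ (Y.H n).obj (mk₁ (homOfLE (le_top : j ≤ ⊤))) :=
  (Y.H n).map (twoδ₁Toδ₀ (homOfLE (bot_le : (⊥ : EInt) ≤ j)) (homOfLE (le_top : j ≤ ⊤))
    (homOfLE bot_le) rfl)

/-- The map `Hⁿ(⊥ ≤ j) ⟶ Hⁿ(⊥ ≤ ⊤)`. -/
noncomputable def σ (n : ℤ) (j : EInt) :
    (Y.H n).obj (mk₁ (homOfLE (bot_le : (⊥ : EInt) ≤ j))) ⟶ abut Y n :=
  (Y.H n).map (twoδ₂Toδ₁ (homOfLE (bot_le : (⊥ : EInt) ≤ j)) (homOfLE (le_top : j ≤ ⊤))
    (homOfLE bot_le) rfl)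

@[reassoc]
lemma σ_ρ (n : ℤ) (j : EInt) : σ Y n j ≫ ρ Y n j = 0 :=
  Y.zero₂ _ _ _ rfl n

lemma σ_ρ_exact (n : ℤ) (j : EInt) : (ShortComplex.mk _ _ (σ_ρ Y n j)).Exact :=
  Y.exact₂ _ _ _ rfl n

/-- The transition map `Hⁿ(j ≤ ⊤) ⟶ Hⁿ(j' ≤ ⊤)` for `j ≤ j'`. -/
noncomputable def τ (n : ℤ) {j j' : EInt} (h : j ≤ j') :
    (Y.H n).obj (mk₁ (homOfLE (le_top : j ≤ ⊤))) ⟶
      (Y.H n).obj (mk₁ (homOfLE (le_top : j' ≤ ⊤))) :=
  (Y.H n).map (homMk₁ (homOfLE h) (𝟙 _) rfl)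

lemma ρ_τ (n : ℤ) {j j' : EInt} (h : j ≤ j') : ρ Y n j ≫ τ Y n h = ρ Y n j' := by
  dsimp only [ρ, τ]
  rw [← Functor.map_comp]
  congr 1

section Fil

variable (n : ℤ) {A : C} (e : A ≅ abut Y n)

/-- The map `A ≅ Hⁿ(⊥ ≤ ⊤) ⟶ Hⁿ(j ≤ ⊤)`. -/
noncomputable def ρ' (j : EInt) : A ⟶ (Y.H n).obj (mk₁ (homOfLE (le_top : j ≤ ⊤))) :=
  e.hom ≫ ρ Y n j

/-- The map `Hⁿ(⊥ ≤ j) ⟶ Hⁿ(⊥ ≤ ⊤) ≅ A`. -/
noncomputable def σ' (j : EInt) : (Y.H n).obj (mk₁ (homOfLE (bot_le : (⊥ : EInt) ≤ j))) ⟶ A :=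
  σ Y n j ≫ e.inv

@[reassoc]
lemma σ'_ρ' (j : EInt) : σ' Y n e j ≫ ρ' Y n e j = 0 := by
  dsimp only [σ', ρ']
  rw [Category.assoc, Iso.inv_hom_id_assoc, σ_ρ]

lemma σ'_ρ'_exact (j : EInt) : (ShortComplex.mk _ _ (σ'_ρ' Y n e j)).Exact := by
  have iso : ShortComplex.mk _ _ (σ_ρ Y n j) ≅ ShortComplex.mk _ _ (σ'_ρ' Y n e j) :=
    ShortComplex.isoMk (Iso.refl _) e.symm (Iso.refl _)
      (by dsimp [σ']; rw [Category.id_comp])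
      (by dsimp [ρ']; rw [Category.comp_id, Iso.inv_hom_id_assoc])
  exact ShortComplex.exact_of_iso iso (σ_ρ_exact Y n j)

lemma ρ'_τ {j j' : EInt} (h : j ≤ j') : ρ' Y n e j ≫ τ Y n h = ρ' Y n e j' := by
  dsimp only [ρ']
  rw [Category.assoc, ρ_τ]

/-- The filtration of the abutment. -/
noncomputable abbrev F (j : EInt) : Subobject A := kernelSubobject (ρ' Y n e j)

lemma F_mono : Monotone (F Y n e) := by
  intro j j' h
  exact le_kernelSubobject _ _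
    (by rw [← ρ'_τ Y n e h, kernelSubobject_arrow_comp_assoc, zero_comp])

lemma F_eq_top (j : EInt) (h : IsZero ((Y.H n).obj (mk₁ (homOfLE (le_top : j ≤ ⊤))))) :
    F Y n e j = ⊤ :=
  top_le_iff.1 (le_kernelSubobject _ _ (h.eq_of_tgt _ _))

lemma F_eq_bot (j : EInt)
    (h : IsZero ((Y.H n).obj (mk₁ (homOfLE (bot_le : (⊥ : EInt) ≤ j))))) :
    F Y n e j = ⊥ := by
  haveI : Mono (ρ' Y n e j) := (σ'_ρ'_exact Y n e j).mono_g (h.eq_of_src _ _)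
  change Subobject.mk (kernel.ι (ρ' Y n e j)) = ⊥
  exact Subobject.mk_eq_bot_iff_zero.2 (kernel.ι_of_mono _)

variable {j j' : EInt} (h : j ≤ j')

/-- The map `Hⁿ(⊥ ≤ j') ⟶ Hⁿ(j ≤ ⊤)`. -/
noncomputable def mid : (Y.H n).obj (mk₁ (homOfLE (bot_le : (⊥ : EInt) ≤ j'))) ⟶
    (Y.H n).obj (mk₁ (homOfLE (le_top : j ≤ ⊤))) :=
  σ Y n j' ≫ ρ Y n j

lemma σ'_ρ'_eq_mid : σ' Y n e j' ≫ ρ' Y n e j = mid Y n (j := j) (j' := j') := by
  dsimp only [σ', ρ', mid]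
  rw [Category.assoc, Iso.inv_hom_id_assoc]

/-- The epimorphism `Hⁿ(⊥ ≤ j') ⟶ F j'`. -/
noncomputable def toF (j' : EInt) :
    (Y.H n).obj (mk₁ (homOfLE (bot_le : (⊥ : EInt) ≤ j'))) ⟶ (F Y n e j' : C) :=
  factorThruKernelSubobject (ρ' Y n e j') (σ' Y n e j') (σ'_ρ' Y n e j')

@[reassoc (attr := simp)]
lemma toF_arrow (j' : EInt) : toF Y n e j' ≫ (F Y n e j').arrow = σ' Y n e j' :=
  factorThruKernelSubobject_comp_arrow _ _ _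

instance (j' : EInt) : Epi (toF Y n e j') := by
  have h1 : Epi (kernel.lift (ρ' Y n e j') (σ' Y n e j') (σ'_ρ' Y n e j')) :=
    (ShortComplex.exact_iff_epi_kernel_lift _).1 (σ'_ρ'_exact Y n e j')
  have h2 : toF Y n e j' ≫ (kernelSubobjectIso (ρ' Y n e j')).hom =
      kernel.lift (ρ' Y n e j') (σ' Y n e j') (σ'_ρ' Y n e j') :=
    factorThruKernelSubobject_comp_kernelSubobjectIso _ _ _
  have h3 : toF Y n e j' = kernel.lift (ρ' Y n e j') (σ' Y n e j') (σ'_ρ' Y n e j') ≫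
      (kernelSubobjectIso (ρ' Y n e j')).inv := by
    rw [← h2, Category.assoc, Iso.hom_inv_id, Category.comp_id]
  rw [h3]
  infer_instance

/-- The graded piece `F j' / F j`. -/
noncomputable abbrev gr : C := cokernel ((F Y n e j).ofLE (F Y n e j') (F_mono Y n e h))

lemma ofLE_arrow_ρ' :
    (F Y n e j).ofLE (F Y n e j') (F_mono Y n e h) ≫ (F Y n e j').arrow ≫ ρ' Y n e j = 0 := by
  rw [Subobject.ofLE_arrow_assoc]
  exact kernelSubobject_arrow_comp _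

/-- The monomorphism `F j' / F j ⟶ Hⁿ(j ≤ ⊤)`. -/
noncomputable def grι : gr Y n e h ⟶ (Y.H n).obj (mk₁ (homOfLE (le_top : j ≤ ⊤))) :=
  cokernel.desc _ ((F Y n e j').arrow ≫ ρ' Y n e j) (ofLE_arrow_ρ' Y n e h)

lemma grSc_exact : (ShortComplex.mk _ _ (ofLE_arrow_ρ' Y n e h)).Exact := by
  apply ShortComplex.exact_of_f_is_kernel
  refine KernelFork.IsLimit.ofι' _ _ (fun {Z} x hx => ?_)
  dsimp at x hx
  refine ⟨factorThruKernelSubobject (ρ' Y n e j) (x ≫ (F Y n e j').arrow)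
    (by rw [Category.assoc]; exact hx), ?_⟩
  dsimp
  rw [← cancel_mono (F Y n e j').arrow, Category.assoc, Subobject.ofLE_arrow]
  exact factorThruKernelSubobject_comp_arrow _ _ _

instance : Mono (grι Y n e h) :=
  (ShortComplex.exact_iff_mono_cokernel_desc _).1 (grSc_exact Y n e h)

lemma toF_π_grι :
    (toF Y n e j' ≫ cokernel.π ((F Y n e j).ofLE (F Y n e j') (F_mono Y n e h))) ≫
      grι Y n e h = mid Y n (j := j) (j' := j') := by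
  dsimp only [grι]
  rw [Category.assoc, cokernel.π_desc, toF_arrow_assoc, σ'_ρ'_eq_mid]

/-- The epimorphism `Hⁿ(⊥ ≤ j') ⟶ Eⁿ(⊥ ≤ j ≤ j' ≤ ⊤)`. -/
noncomputable def toE : (Y.H n).obj (mk₁ (homOfLE (bot_le : (⊥ : EInt) ≤ j'))) ⟶
    Y.E (homOfLE (bot_le : (⊥ : EInt) ≤ j)) (homOfLE h) (homOfLE (le_top : j' ≤ ⊤))
      (n - 1) n (n + 1) :=
  Y.toCycles (homOfLE (bot_le : (⊥ : EInt) ≤ j)) (homOfLE h) (homOfLE bot_le) rfl n ≫
    Y.πE _ _ _ (n - 1) n (n + 1)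

instance : Epi (toE Y n h) := by
  dsimp only [toE]
  infer_instance

/-- The monomorphism `Eⁿ(⊥ ≤ j ≤ j' ≤ ⊤) ⟶ Hⁿ(j ≤ ⊤)`. -/
noncomputable def fromE :
    Y.E (homOfLE (bot_le : (⊥ : EInt) ≤ j)) (homOfLE h) (homOfLE (le_top : j' ≤ ⊤))
      (n - 1) n (n + 1) ⟶ (Y.H n).obj (mk₁ (homOfLE (le_top : j ≤ ⊤))) :=
  Y.ιE _ _ _ (n - 1) n (n + 1) ≫
    Y.fromOpcycles (homOfLE h) (homOfLE (le_top : j' ≤ ⊤)) (homOfLE le_top) rfl n

instance : Mono (fromE Y n h) := by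
  dsimp only [fromE]
  infer_instance

lemma toE_fromE : toE Y n h ≫ fromE Y n h = mid Y n (j := j) (j' := j') := by
  dsimp only [toE, fromE, mid, σ, ρ]
  rw [Category.assoc, Y.πE_ιE_assoc _ _ _ (n - 1) n (n + 1), Y.toCycles_i_assoc,
    Y.p_fromOpcycles, ← Functor.map_comp,
    ← Functor.map_comp]
  congr 1

/-- The isomorphism `F j' / F j ≅ Eⁿ(⊥ ≤ j ≤ j' ≤ ⊤)`. -/
noncomputable def grIso : gr Y n e h ≅
    Y.E (homOfLE (bot_le : (⊥ : EInt) ≤ j)) (homOfLE h) (homOfLE (le_top : j' ≤ ⊤))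
      (n - 1) n (n + 1) :=
  haveI : StrongEpi (toF Y n e j' ≫
      cokernel.π ((F Y n e j).ofLE (F Y n e j') (F_mono Y n e h))) :=
    strongEpi_of_epi _
  haveI : StrongEpi (toE Y n h) := strongEpi_of_epi _
  image.isoStrongEpiMono _ (grι Y n e h) (toF_π_grι Y n e h) ≪≫
    (image.isoStrongEpiMono (toE Y n h) (fromE Y n h) (toE_fromE Y n h)).symm

/-- Change of indices in `gr`. -/
noncomputable def grCongr {j₁ j₁' j₂ j₂' : EInt} (h₁ : j₁ ≤ j₁') (h₂ : j₂ ≤ j₂') (hj : j₁ = j₂)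
    (hj' : j₁' = j₂') : gr Y n e h₁ ≅ gr Y n e h₂ := by
  subst hj hj'
  exact Iso.refl _

end Fil

end Groth.Agent.Lib.Helper2.GSS
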