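import Groth.Prelude.Def_SpSeq
import Mathlib.Data.Int.Interval
import Mathlib.Order.Interval.Finset.Defs
import Groth.Agent.Lib.Helper2.GSS.Filtration

/-!
# Convergence of the spectral sequence of a first quadrant spectral object (helper2)
-/

set_option autoImplicit false
universe v u

namespace Groth.Agent.Lib.Helper2.GSS

open CategoryTheory CategoryTheory.Limits ComposableArrows Abelian.SpectralObject

variable {C : Type u} [Category.{v} C] [Abelian C] (Y : Abelian.SpectralObject C EInt)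
  [Y.IsFirstQuadrant]

lemma isZero_page_of_snd_neg (r : ℤ) (hr : 2 ≤ r) (pq : ℤ × ℤ) (hq : pq.2 < 0) :
    IsZero ((Y.E₂SpectralSequence.page r hr).X pq) :=
  isZero_spectralSequence_page_X_of_isZero_H' _ _ _ hr _
    (Y.isZero₁_of_isFirstQuadrant _ _ _ (by simp; lia) _)

lemma isZero_page_of_fst_neg (r : ℤ) (hr : 2 ≤ r) (pq : ℤ × ℤ) (hp : pq.1 < 0) :
    IsZero ((Y.E₂SpectralSequence.page r hr).X pq) :=
  isZero_spectralSequence_page_X_of_isZero_H' _ _ _ hr _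
    (Y.isZero₂_of_isFirstQuadrant _ _ _ _ (by simp; lia))

/-- The page from which the position `pq` is stationary. -/
def rk (pq : ℤ × ℤ) : ℤ := max 2 (max (pq.1 + 1) (pq.2 + 2))

lemma two_le_rk (pq : ℤ × ℤ) : 2 ≤ rk pq := le_max_left _ _

lemma fst_lt_rk (pq : ℤ × ℤ) : pq.1 < rk pq := by
  have : pq.1 + 1 ≤ rk pq := (le_max_left _ _).trans (le_max_right _ _)
  omega

lemma snd_add_two_le_rk (pq : ℤ × ℤ) : pq.2 + 2 ≤ rk pq :=
  (le_max_right _ _).trans (le_max_right _ _)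

lemma stationaryAt (pq : ℤ × ℤ) : SpSeq.StationaryAt Y.E₂SpectralSequence pq (rk pq) := by
  refine ⟨two_le_rk pq, fun r' h₀ hr' => ⟨?_, ?_⟩⟩
  · apply (isZero_page_of_fst_neg Y r' h₀ _ _).eq_of_src
    have := fst_lt_rk pq
    simp only [Prod.fst_sub]
    omega
  · apply (isZero_page_of_snd_neg Y r' h₀ _ _).eq_of_tgt
    have := snd_add_two_le_rk pq
    simp only [Prod.snd_add]
    omega

variable (H : ℤ → C) (e : ∀ n, H n ≅ abut Y n)

/-- The filtration on the abutment. -/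
noncomputable def fil (n p : ℤ) : Subobject (H n) := F Y n (e n) ((n - p + 1 : ℤ) : EInt)

lemma fil_anti (n : ℤ) : Antitone (fil Y H e n) := fun p p' h =>
  F_mono Y n (e n) (WithBotTop.coe_le_coe.2 (by omega))

lemma fil_zero (n : ℤ) : fil Y H e n 0 = ⊤ :=
  F_eq_top Y n (e n) _ (Y.isZero₂_of_isFirstQuadrant _ _ _ _ (WithBotTop.coe_lt_coe.2 (by omega)))

lemma fil_succ (n : ℤ) : fil Y H e n (n + 1) = ⊥ :=
  F_eq_bot Y n (e n) _ (Y.isZero₁_of_isFirstQuadrant _ _ _ (WithBotTop.coe_le_coe.2 (by omega)) _)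

/-- The identification of the limit term. -/
noncomputable def βaux (p q r : ℤ) (hr : 2 ≤ r) (hp : p < r) (hq : q + 2 ≤ r) :
    (Y.E₂SpectralSequence.page r hr).X (p, q) ≅
      gr Y (p + q) (e (p + q))
        (WithBotTop.coe_le_coe.2 (by omega) : ((q : ℤ) : EInt) ≤ ((q + 1 : ℤ) : EInt)) := by
  have h01 : ((q - r + 2 : ℤ) : EInt) ≤ ((q : ℤ) : EInt) := WithBotTop.coe_le_coe.2 (by omega)
  have h12 : ((q : ℤ) : EInt) ≤ ((q + 1 : ℤ) : EInt) := WithBotTop.coe_le_coe.2 (by omega)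
  have h23 : ((q + 1 : ℤ) : EInt) ≤ ((q + r - 1 : ℤ) : EInt) :=
    WithBotTop.coe_le_coe.2 (by omega)
  let iso1 := Y.spectralSequencePageXIso coreE₂Cohomological r hr (p, q)
    ((q - r + 2 : ℤ) : EInt) ((q : ℤ) : EInt) ((q + 1 : ℤ) : EInt) ((q + r - 1 : ℤ) : EInt)
    rfl rfl rfl rfl (p + q - 1) (p + q) (p + q + 1) rfl
  have hz2 : IsZero ((Y.H (p + q + 1)).obj
      (mk₁ (homOfLE (bot_le : (⊥ : EInt) ≤ ((q - r + 2 : ℤ) : EInt))))) :=
    Y.isZero₁_of_isFirstQuadrant _ _ _ (WithBotTop.coe_le_coe.2 (by omega)) _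
  haveI := Y.isIso_map_fourδ₁Toδ₀_of_isZero
    (homOfLE (bot_le : (⊥ : EInt) ≤ ((q - r + 2 : ℤ) : EInt))) (homOfLE h01) (homOfLE h12)
    (homOfLE h23) (homOfLE bot_le) rfl (p + q - 1) (p + q) (p + q + 1) hz2
  let iso2 := asIso (Y.map (homOfLE (bot_le : (⊥ : EInt) ≤ ((q : ℤ) : EInt))) (homOfLE h12)
    (homOfLE h23) (homOfLE h01) (homOfLE h12) (homOfLE h23)
    (fourδ₁Toδ₀ (homOfLE (bot_le : (⊥ : EInt) ≤ ((q - r + 2 : ℤ) : EInt))) (homOfLE h01)
      (homOfLE h12) (homOfLE h23) (homOfLE bot_le) rfl) (p + q - 1) (p + q) (p + q + 1)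
    (sub_add_cancel _ _) rfl)
  have hz3 : IsZero ((Y.H (p + q - 1)).obj
      (mk₁ (homOfLE (le_top : ((q + r - 1 : ℤ) : EInt) ≤ ⊤)))) :=
    Y.isZero₂_of_isFirstQuadrant _ _ _ _ (WithBotTop.coe_lt_coe.2 (by omega))
  haveI := Y.isIso_map_fourδ₄Toδ₃_of_isZero
    (homOfLE (bot_le : (⊥ : EInt) ≤ ((q : ℤ) : EInt))) (homOfLE h12) (homOfLE h23)
    (homOfLE (le_top : ((q + r - 1 : ℤ) : EInt) ≤ ⊤)) (homOfLE le_top) rfl
    (p + q - 1) (p + q) (p + q + 1) hz3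
  let iso3 := asIso (Y.map (homOfLE (bot_le : (⊥ : EInt) ≤ ((q : ℤ) : EInt))) (homOfLE h12)
    (homOfLE h23) (homOfLE (bot_le : (⊥ : EInt) ≤ ((q : ℤ) : EInt))) (homOfLE h12)
    (homOfLE (le_top : ((q + 1 : ℤ) : EInt) ≤ ⊤))
    (fourδ₄Toδ₃ (homOfLE (bot_le : (⊥ : EInt) ≤ ((q : ℤ) : EInt))) (homOfLE h12) (homOfLE h23)
      (homOfLE (le_top : ((q + r - 1 : ℤ) : EInt) ≤ ⊤)) (homOfLE le_top) rfl)
    (p + q - 1) (p + q) (p + q + 1) (sub_add_cancel _ _) rfl)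
  exact iso1 ≪≫ iso2.symm ≪≫ iso3 ≪≫ (grIso Y (p + q) (e (p + q)) h12).symm

/-- The abutment data. -/
noncomputable def abutment : SpSeq.Abutment Y.E₂SpectralSequence H where
  fil n := fil Y H e n
  anti n := fil_anti Y H e n
  rk := rk
  stat := stationaryAt Y
  β pq := βaux Y H e pq.1 pq.2 (rk pq) (two_le_rk pq) (fst_lt_rk pq) (snd_add_two_le_rk pq) ≪≫
    grCongr Y (pq.1 + pq.2) (e (pq.1 + pq.2)) _
      (WithBotTop.coe_le_coe.2 (by omega) :
        ((pq.1 + pq.2 - (pq.1 + 1) + 1 : ℤ) : EInt) ≤ ((pq.1 + pq.2 - pq.1 + 1 : ℤ) : EInt))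
      (congrArg WithBotTop.coe (by omega)) (congrArg WithBotTop.coe (by omega))

lemma abutment_isFinite (n : ℤ) : (abutment Y H e).IsFinite n :=
  ⟨⟨0, fil_zero Y H e n⟩, ⟨n + 1, fil_succ Y H e n⟩⟩

lemma isBounded : SpSeq.IsBounded Y.E₂SpectralSequence := by
  intro n
  apply (Set.finite_Icc (0 : ℤ) n).subset
  intro p hp
  simp only [Set.mem_ofPred_eq] at hp
  by_contra h
  simp only [Set.mem_Icc, not_and_or, not_le] at h
  rcases h with h | h
  · exact hp (isZero_page_of_fst_neg Y 2 le_rfl _ h)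
  · exact hp (isZero_page_of_snd_neg Y 2 le_rfl _ (by dsimp only; omega))

/-- The second page. -/
noncomputable def pageTwoIso (p q : ℤ) :
    (Y.E₂SpectralSequence.page 2 le_rfl).X (p, q) ≅
      (Y.H (p + q)).obj (mk₁ (homOfLE
        (WithBotTop.coe_le_coe.2 (by omega) : ((q : ℤ) : EInt) ≤ ((q + 1 : ℤ) : EInt)))) :=
  Y.spectralSequencePageXIso coreE₂Cohomological 2 le_rfl (p, q)
    ((q : ℤ) : EInt) ((q : ℤ) : EInt) ((q + 1 : ℤ) : EInt) ((q + 1 : ℤ) : EInt)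
    (congrArg WithBotTop.coe (by omega)) rfl rfl (congrArg WithBotTop.coe (by omega))
    (p + q - 1) (p + q) (p + q + 1) rfl ≪≫
  Y.EIsoH (homOfLE
    (WithBotTop.coe_le_coe.2 (by omega) : ((q : ℤ) : EInt) ≤ ((q + 1 : ℤ) : EInt)))
    (p + q - 1) (p + q) (p + q + 1)

include e in
theorem exists_abutment :
    ∃ (E : E₂CohomologicalSpectralSequence C) (a : SpSeq.Abutment E H),
      (∀ n, a.IsFinite n) ∧ SpSeq.IsBounded E ∧
      ∀ p q : ℤ, Nonempty ((E.page 2 le_rfl).X (p, q) ≅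
        (Y.H (p + q)).obj (mk₁ (homOfLE
          (WithBotTop.coe_le_coe.2 (by omega) : ((q : ℤ) : EInt) ≤ ((q + 1 : ℤ) : EInt))))) :=
  ⟨Y.E₂SpectralSequence, abutment Y H e, abutment_isFinite Y H e, isBounded Y,
    fun p q => ⟨pageTwoIso Y p q⟩⟩

end Groth.Agent.Lib.Helper2.GSS
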