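import Groth.Agent.Lib.Helper2.GSS.DimShift
import Groth.Agent.Lib.Helper13.CechLES
import Groth.Agent.Lib.Helper13.CechInjective

/-!
# Čech cohomology of presheaves as right derived functors of `Ȟ⁰` (helper2)
-/

set_option autoImplicit false
universe w u' u

namespace Groth.Agent.Lib.Helper2.GSS

open CategoryTheory CategoryTheory.Limits Opposite
open Groth.Agent.Lib.Helper13 Groth.Agent.Lib.Helper13.CechBasic Groth.Agent.Lib.Helper13.CechLow
  Groth.Agent.Lib.Helper13.CechLES

section General

variable {D : Type u'} [Category.{w} D] [HasFiniteProducts D] {κ : Type w} (Y : κ → D)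

instance cechComplexFunctor_additive :
    (cechComplexFunctor (A := AddCommGrpCat.{w}) Y).Additive where
  map_add {P P' τ τ'} := by
    ext n : 1
    apply AddCommGrpCat.hom_ext
    ext x
    apply ext_elem
    intro i
    rw [map_proj_apply]
    change _ = (proj Y P' n i).hom ((((cechComplexFunctor Y).map τ).f n).hom x +
      (((cechComplexFunctor Y).map τ').f n).hom x)
    rw [map_add, map_proj_apply, map_proj_apply]
    rfl

end General

section Site

variable {C : Type u} [SmallCategory C] [HasPullbacks C] {X : C} {ι : Type u} (Y : ι → Over X)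

instance : IsGrothendieckAbelian.{u} (Cᵒᵖ ⥤ AddCommGrpCat.{u}) :=
  IsGrothendieckAbelian.of_equivalence (sheafBotEquivalence AddCommGrpCat.{u})

/-- The Čech complex functor on presheaves on `C` of a family over `X`. -/
noncomputable abbrev cechG : (Cᵒᵖ ⥤ AddCommGrpCat.{u}) ⥤ CochainComplex AddCommGrpCat.{u} ℕ :=
  (Functor.whiskeringLeft _ _ _).obj (Over.forget X).op ⋙ cechComplexFunctor Y

instance : (cechG Y).Additive := by
  haveI : ((Functor.whiskeringLeft (Over X)ᵒᵖ Cᵒᵖ AddCommGrpCat.{u}).obj
      (Over.forget X).op).Additive := { map_add := rfl }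
  dsimp only [cechG]
  infer_instance

lemma cechG_shortExact (S : ShortComplex (Cᵒᵖ ⥤ AddCommGrpCat.{u})) (hS : S.ShortExact) :
    (S.map (cechG Y)).ShortExact := by
  let W := (Functor.whiskeringLeft (Over X)ᵒᵖ Cᵒᵖ AddCommGrpCat.{u}).obj (Over.forget X).op
  have key : SectionwiseExact Y (S.map W) := by
    have hc : ∀ c : Cᵒᵖ, (S.map ((evaluation Cᵒᵖ AddCommGrpCat.{u}).obj c)).ShortExact :=
      fun c => hS.map_of_exact _
    refine ⟨fun n i x hx => ?_, fun n i x hx => ?_, fun n i z => ?_⟩
    · have h := (hc (op (∏ᶜ (Y ∘ i)).left)).mono_f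
      rw [AddCommGrpCat.mono_iff_injective, injective_iff_map_eq_zero] at h
      exact h x hx
    · have h := (hc (op (∏ᶜ (Y ∘ i)).left)).exact
      rw [ShortComplex.ab_exact_iff] at h
      exact h x hx
    · have h := (hc (op (∏ᶜ (Y ∘ i)).left)).epi_g
      rw [AddCommGrpCat.epi_iff_surjective] at h
      exact h z
  exact cechSC_shortExact key

lemma cechG_acyclic (I : Cᵒᵖ ⥤ AddCommGrpCat.{u}) (hI : Injective I) (n : ℕ) :
    IsZero (((cechG Y).obj I).homology (n + 1)) := by
  have := CechInjective.injective_over X I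
  change IsZero (((cechComplexFunctor Y).obj ((Over.forget X).op ⋙ I)).homology (n + 1))
  exact CechBasic.isZero_homology_of_injective Y _ n

/-- Čech cohomology of presheaves is the right derived functor of `Ȟ⁰`. -/
theorem nonempty_rightDerived_cech_iso (n : ℕ) (P : Cᵒᵖ ⥤ AddCommGrpCat.{u}) :
    Nonempty (((H0 (cechG Y)).rightDerived n).obj P ≅ CohCx.cechH P Y n) :=
  nonempty_rightDerived_iso_homology (cechG Y) (cechG_shortExact Y) (cechG_acyclic Y) n P

end Site

end Groth.Agent.Lib.Helper2.GSS
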