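import Mathlib.Algebra.Homology.SpectralObject.Basic
import Mathlib.Order.WithBotTop

/-!
# Spectral objects indexed by `EInt` whose `Hⁿ(i ≤ j)` is concentrated in `i ≤ n < j` (helper2)
-/

set_option autoImplicit false

namespace Groth.Agent.Lib.Helper2.GSS

open CategoryTheory CategoryTheory.Limits ComposableArrows

variable {A : Type*} [Category A] [Abelian A] (W : Abelian.SpectralObject A EInt)

/-- `Hⁿ(i ≤ j)` vanishes unless `i ≤ n < j`. -/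
structure IsConcentrated : Prop where
  isZero₁ (i j : EInt) (hij : i ≤ j) (n : ℤ) (hi : (n : EInt) < i) :
    IsZero ((W.H n).obj (mk₁ (homOfLE hij)))
  isZero₂ (i j : EInt) (hij : i ≤ j) (n : ℤ) (hj : j ≤ (n : EInt)) :
    IsZero ((W.H n).obj (mk₁ (homOfLE hij)))

variable {W} (hW : IsConcentrated W) (n : ℤ)

include hW in
lemma IsConcentrated.isIso_a :
    IsIso ((W.H n).map (twoδ₂Toδ₁ (homOfLE (bot_le : (⊥ : EInt) ≤ ((n + 1 : ℤ) : EInt)))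
      (homOfLE (le_top : ((n + 1 : ℤ) : EInt) ≤ ⊤)) (homOfLE bot_le) rfl)) := by
  have h1 := W.exact₁ (homOfLE (bot_le : (⊥ : EInt) ≤ ((n + 1 : ℤ) : EInt)))
    (homOfLE (le_top : ((n + 1 : ℤ) : EInt) ≤ ⊤)) (homOfLE bot_le) rfl (n - 1) n
  have h2 := W.exact₂ (homOfLE (bot_le : (⊥ : EInt) ≤ ((n + 1 : ℤ) : EInt)))
    (homOfLE (le_top : ((n + 1 : ℤ) : EInt) ≤ ⊤)) (homOfLE bot_le) rfl n
  have z1 : IsZero ((W.H (n - 1)).obj (mk₁ (homOfLE (le_top : ((n + 1 : ℤ) : EInt) ≤ ⊤)))) :=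
    hW.isZero₁ _ _ _ _ (WithBotTop.coe_lt_coe.2 (by omega))
  have z2 : IsZero ((W.H n).obj (mk₁ (homOfLE (le_top : ((n + 1 : ℤ) : EInt) ≤ ⊤)))) :=
    hW.isZero₁ _ _ _ _ (WithBotTop.coe_lt_coe.2 (by omega))
  haveI : Mono ((W.H n).map (twoδ₂Toδ₁ (homOfLE (bot_le : (⊥ : EInt) ≤ ((n + 1 : ℤ) : EInt)))
      (homOfLE (le_top : ((n + 1 : ℤ) : EInt) ≤ ⊤)) (homOfLE bot_le) rfl)) :=
    h1.mono_g (z1.eq_of_src _ _)
  haveI : Epi ((W.H n).map (twoδ₂Toδ₁ (homOfLE (bot_le : (⊥ : EInt) ≤ ((n + 1 : ℤ) : EInt)))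
      (homOfLE (le_top : ((n + 1 : ℤ) : EInt) ≤ ⊤)) (homOfLE bot_le) rfl)) :=
    h2.epi_f (z2.eq_of_tgt _ _)
  exact isIso_of_mono_of_epi _

include hW in
lemma IsConcentrated.isIso_b :
    IsIso ((W.H n).map (twoδ₁Toδ₀ (homOfLE (bot_le : (⊥ : EInt) ≤ ((n : ℤ) : EInt)))
      (homOfLE (WithBotTop.coe_le_coe.2 (by omega) :
        ((n : ℤ) : EInt) ≤ ((n + 1 : ℤ) : EInt))) (homOfLE bot_le) rfl)) := by
  have h2 := W.exact₂ (homOfLE (bot_le : (⊥ : EInt) ≤ ((n : ℤ) : EInt)))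
    (homOfLE (WithBotTop.coe_le_coe.2 (by omega) :
      ((n : ℤ) : EInt) ≤ ((n + 1 : ℤ) : EInt))) (homOfLE bot_le) rfl n
  have h3 := W.exact₃ (homOfLE (bot_le : (⊥ : EInt) ≤ ((n : ℤ) : EInt)))
    (homOfLE (WithBotTop.coe_le_coe.2 (by omega) :
      ((n : ℤ) : EInt) ≤ ((n + 1 : ℤ) : EInt))) (homOfLE bot_le) rfl n (n + 1)
  have z1 : IsZero ((W.H n).obj (mk₁ (homOfLE (bot_le : (⊥ : EInt) ≤ ((n : ℤ) : EInt))))) :=
    hW.isZero₂ _ _ _ _ le_rfl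
  have z2 : IsZero ((W.H (n + 1)).obj
      (mk₁ (homOfLE (bot_le : (⊥ : EInt) ≤ ((n : ℤ) : EInt))))) :=
    hW.isZero₂ _ _ _ _ (WithBotTop.coe_le_coe.2 (by omega))
  haveI : Mono ((W.H n).map (twoδ₁Toδ₀ (homOfLE (bot_le : (⊥ : EInt) ≤ ((n : ℤ) : EInt)))
      (homOfLE (WithBotTop.coe_le_coe.2 (by omega) :
        ((n : ℤ) : EInt) ≤ ((n + 1 : ℤ) : EInt))) (homOfLE bot_le) rfl)) :=
    h2.mono_g (z1.eq_of_src _ _)
  haveI : Epi ((W.H n).map (twoδ₁Toδ₀ (homOfLE (bot_le : (⊥ : EInt) ≤ ((n : ℤ) : EInt)))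
      (homOfLE (WithBotTop.coe_le_coe.2 (by omega) :
        ((n : ℤ) : EInt) ≤ ((n + 1 : ℤ) : EInt))) (homOfLE bot_le) rfl)) :=
    h3.epi_f (z2.eq_of_tgt _ _)
  exact isIso_of_mono_of_epi _

/-- For a concentrated spectral object, `Hⁿ(n ≤ n + 1) ≅ Hⁿ(⊥ ≤ ⊤)`. -/
noncomputable def IsConcentrated.iso :
    (W.H n).obj (mk₁ (homOfLE (WithBotTop.coe_le_coe.2 (by omega) :
      ((n : ℤ) : EInt) ≤ ((n + 1 : ℤ) : EInt)))) ≅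
    (W.H n).obj (mk₁ (homOfLE (bot_le : (⊥ : EInt) ≤ ⊤))) :=
  haveI := hW.isIso_a n
  haveI := hW.isIso_b n
  (asIso ((W.H n).map (twoδ₁Toδ₀ (homOfLE (bot_le : (⊥ : EInt) ≤ ((n : ℤ) : EInt)))
      (homOfLE (WithBotTop.coe_le_coe.2 (by omega) :
        ((n : ℤ) : EInt) ≤ ((n + 1 : ℤ) : EInt))) (homOfLE bot_le) rfl))).symm ≪≫
    asIso ((W.H n).map (twoδ₂Toδ₁ (homOfLE (bot_le : (⊥ : EInt) ≤ ((n + 1 : ℤ) : EInt)))
      (homOfLE (le_top : ((n + 1 : ℤ) : EInt) ≤ ⊤)) (homOfLE bot_le) rfl))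

end Groth.Agent.Lib.Helper2.GSS
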