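import Mathlib.Algebra.Homology.DerivedCategory.DerivabilityStructureInjectives
import Mathlib.Algebra.Homology.DerivedCategory.Plus
import Mathlib.Algebra.Homology.HomotopyCategory.HomologicalFunctor
import Mathlib.Algebra.Homology.HomotopyCategory.ShiftSequence
import Mathlib.CategoryTheory.Triangulated.Adjunction
import Mathlib.CategoryTheory.Triangulated.TStructure.SpectralObject
import Groth.Agent.Lib.Helper2.GSS.MapHomological
import Groth.Agent.Lib.Helper2.GSS.Concentrated
import Mathlib.Algebra.Homology.DerivedCategory.FullyFaithful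
import Mathlib.Algebra.Homology.SpectralObject.HasSpectralSequence

/-!
# The homological functor `X ↦ H⁰(S(injective model of X))` on `D⁺` (helper2)
-/

set_option autoImplicit false
universe w v u v'' u''

namespace Groth.Agent.Lib.Helper2.GSS

open CategoryTheory CategoryTheory.Limits

section Equivalence

variable (C : Type u) [Category.{v} C] [Abelian C] [HasDerivedCategory.{w} C]

/-- The functor `K⁺(Inj C) ⥤ D⁺(C)`. -/
noncomputable abbrev Ψ : HomotopyCategory.Plus (InjectiveObject C) ⥤ DerivedCategory.Plus C :=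
  (InjectiveObject.ι C).mapHomotopyCategoryPlus ⋙ DerivedCategory.Plus.Qh

variable {C}

lemma isKInjective_obj (Y : HomotopyCategory.Plus (InjectiveObject C)) :
    CochainComplex.IsKInjective (((InjectiveObject.ι C).mapHomotopyCategoryPlus.obj Y).1.as) := by
  obtain ⟨K, rfl⟩ := HomotopyCategory.Plus.quotient_obj_surjective Y
  exact inferInstanceAs (CochainComplex.IsKInjective
    (((InjectiveObject.ι C).mapHomologicalComplex (.up ℤ)).obj K.obj))

lemma Ψ_map_bijective (X Y : HomotopyCategory.Plus (InjectiveObject C)) :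
    Function.Bijective ((Ψ C).map : (X ⟶ Y) → _) := by
  have h1 := DerivedCategory.Plus.Qh_map_bijective_of_isKInjective
    ((InjectiveObject.ι C).mapHomotopyCategoryPlus.obj X)
    ((InjectiveObject.ι C).mapHomotopyCategoryPlus.obj Y) (isKInjective_obj Y)
  have h2 : Function.Bijective ((InjectiveObject.ι C).mapHomotopyCategoryPlus.map :
      (X ⟶ Y) → _) :=
    ⟨(InjectiveObject.ι C).mapHomotopyCategoryPlus.map_injective,
      (InjectiveObject.ι C).mapHomotopyCategoryPlus.map_surjective⟩
  exact h1.comp h2

instance : (Ψ C).Faithful where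
  map_injective {X Y} _ _ h := (Ψ_map_bijective X Y).injective h

instance : (Ψ C).Full where
  map_surjective {X Y} f := (Ψ_map_bijective X Y).surjective f

variable [EnoughInjectives C]

instance : (Ψ C).IsEquivalence where

variable (C)

/-- The equivalence `K⁺(Inj C) ≌ D⁺(C)`. -/
noncomputable def eqv : HomotopyCategory.Plus (InjectiveObject C) ≌ DerivedCategory.Plus C :=
  (Ψ C).asEquivalence

noncomputable instance : (eqv C).functor.CommShift ℤ :=
  inferInstanceAs ((Ψ C).CommShift ℤ)

instance : (eqv C).functor.IsTriangulated :=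
  inferInstanceAs ((Ψ C).IsTriangulated)

noncomputable instance : (eqv C).inverse.CommShift ℤ := (eqv C).commShiftInverse ℤ

instance : (eqv C).CommShift ℤ := (eqv C).commShift_of_functor ℤ

instance : (eqv C).IsTriangulated := Equivalence.IsTriangulated.mk' _ inferInstance

/-- The inverse functor `D⁺(C) ⥤ K⁺(Inj C)`. -/
noncomputable def G : DerivedCategory.Plus C ⥤ HomotopyCategory.Plus (InjectiveObject C) :=
  (eqv C).inverse

noncomputable instance : (G C).CommShift ℤ := inferInstanceAs ((eqv C).inverse.CommShift ℤ)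

instance : (G C).IsTriangulated := inferInstanceAs ((eqv C).inverse.IsTriangulated)

/-- `G (Ψ J) ≅ J`. -/
noncomputable def GΨIso (J : HomotopyCategory.Plus (InjectiveObject C)) :
    (G C).obj ((Ψ C).obj J) ≅ J :=
  ((eqv C).unitIso.app J).symm

end Equivalence

section Phi

variable (C : Type u) [Category.{v} C] [Abelian C] [HasDerivedCategory.{w} C]
  [EnoughInjectives C]
  {D : Type u''} [Category.{v''} D] [Abelian D] (S : C ⥤ D) [S.Additive]

/-- The triangulated functor `K⁺(Inj C) ⥤ K(D)` induced by `S`. -/
noncomputable def LS : HomotopyCategory.Plus (InjectiveObject C) ⥤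
    HomotopyCategory D (ComplexShape.up ℤ) :=
  (InjectiveObject.ι C ⋙ S).mapHomotopyCategoryPlus ⋙ HomotopyCategory.Plus.ι D

noncomputable instance : (LS C S).CommShift ℤ := by
  dsimp only [LS]; infer_instance

instance : (LS C S).IsTriangulated := by
  dsimp only [LS]; infer_instance

/-- The triangulated functor `D⁺(C) ⥤ K(D)`. -/
noncomputable def πS : DerivedCategory.Plus C ⥤ HomotopyCategory D (ComplexShape.up ℤ) :=
  G C ⋙ LS C S

noncomputable instance : (πS C S).CommShift ℤ := by
  dsimp only [πS]; infer_instance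

instance : (πS C S).IsTriangulated := by
  dsimp only [πS]; infer_instance

/-- The homological functor `X ↦ H⁰(S(injective model of X))` on `D⁺(C)`. -/
noncomputable def Φ : DerivedCategory.Plus C ⥤ D :=
  πS C S ⋙ HomotopyCategory.homologyFunctor D (ComplexShape.up ℤ) 0

instance : (Φ C S).IsHomological := by
  dsimp only [Φ]; infer_instance

noncomputable instance : (Φ C S).ShiftSequence ℤ := by
  dsimp only [Φ]; infer_instance

lemma Φ_shift (n : ℤ) :
    (Φ C S).shift n = πS C S ⋙ HomotopyCategory.homologyFunctor D (ComplexShape.up ℤ) n := rfl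

variable {C}

/-- The key computation: if `L` is an injective model of `X`, then `(Φ.shift n)(X) ≅ Hⁿ(S(L))`. -/
noncomputable def shiftObjIso (n : ℤ) (L : CochainComplex.Plus (InjectiveObject C))
    (X : DerivedCategory.Plus C)
    (e : X ≅ (Ψ C).obj ((HomotopyCategory.Plus.quotient _).obj L)) :
    ((Φ C S).shift n).obj X ≅
      (((InjectiveObject.ι C ⋙ S).mapHomologicalComplex (ComplexShape.up ℤ)).obj
        L.obj).homology n :=
  ((Φ C S).shift n).mapIso e ≪≫
    (HomotopyCategory.homologyFunctor D (ComplexShape.up ℤ) n).mapIso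
      ((LS C S).mapIso (GΨIso C ((HomotopyCategory.Plus.quotient _).obj L))) ≪≫
    (HomotopyCategory.homologyFunctorFactors D (ComplexShape.up ℤ) n).app
      (((InjectiveObject.ι C ⋙ S).mapHomologicalComplex (ComplexShape.up ℤ)).obj L.obj)

lemma isZero_shift_obj_of_isGE (X : DerivedCategory.Plus C) (m n : ℤ) (hn : n < m)
    [DerivedCategory.Plus.TStructure.t.IsGE X m] :
    IsZero (((Φ C S).shift n).obj X) := by
  obtain ⟨L, hL, ⟨e⟩⟩ := DerivedCategory.Plus.exists_injective_nonempty_iso X m
  refine IsZero.of_iso ?_ (shiftObjIso S n L X e.symm)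
  have : CochainComplex.IsStrictlyGE
      (((InjectiveObject.ι C ⋙ S).mapHomologicalComplex (ComplexShape.up ℤ)).obj L.obj) m :=
    inferInstance
  exact ShortComplex.isZero_homology_of_isZero_X₂ _
    (CochainComplex.isZero_of_isStrictlyGE
      (((InjectiveObject.ι C ⋙ S).mapHomologicalComplex (ComplexShape.up ℤ)).obj L.obj) m n hn)

end Phi

section SO

open ComposableArrows

variable {C : Type u} [Category.{v} C] [Abelian C] [HasDerivedCategory.{w} C]
  [EnoughInjectives C]
  {D : Type u''} [Category.{v''} D] [Abelian D] (S : C ⥤ D) [S.Additive]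
  (K : DerivedCategory.Plus C)

/-- The spectral object of truncations of `K` in `D⁺(C)`. -/
noncomputable def soTri : Triangulated.SpectralObject (DerivedCategory.Plus C) EInt :=
  DerivedCategory.Plus.TStructure.t.spectralObject K

/-- The spectral object in `D` obtained from the truncations of `K` and the functor `Φ`. -/
noncomputable def so : Abelian.SpectralObject D EInt := mapHomological (soTri K) (Φ C S)

lemma so_H_obj (n : ℤ) (i j : EInt) (h : i ≤ j) :
    ((so S K).H n).obj (mk₁ (homOfLE h)) =
      ((Φ C S).shift n).obj ((DerivedCategory.Plus.TStructure.t.eTruncGE.obj i).obj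
        ((DerivedCategory.Plus.TStructure.t.eTruncLT.obj j).obj K)) := rfl

lemma exists_int_lt_le (n : ℤ) (i : EInt) (hi : (n : EInt) < i) :
    ∃ m : ℤ, n < m ∧ ((m : ℤ) : EInt) ≤ i := by
  induction i using WithBotTop.rec with
  | bot => exact (not_lt_bot hi).elim
  | coe a => exact ⟨a, WithBotTop.coe_lt_coe.1 hi, le_rfl⟩
  | top => exact ⟨n + 1, by omega, le_top⟩

instance [DerivedCategory.Plus.TStructure.t.IsGE K 0] : (so S K).IsFirstQuadrant where
  isZero₁ i j hij hj n := by
    have h0 : IsZero ((DerivedCategory.Plus.TStructure.t.eTruncLT.obj j).obj K) :=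
      DerivedCategory.Plus.TStructure.t.isZero_eTruncLT_obj_obj K 0 j hj
    rw [so_H_obj]
    exact Functor.map_isZero _ (Functor.map_isZero _ h0)
  isZero₂ i j hij n hi := by
    obtain ⟨m, hm, hmi⟩ := exists_int_lt_le n i hi
    haveI := DerivedCategory.Plus.TStructure.t.isGE_eTruncGE_obj_obj m i hmi
      ((DerivedCategory.Plus.TStructure.t.eTruncLT.obj j).obj K)
    rw [so_H_obj]
    exact isZero_shift_obj_of_isGE S _ m n hm

/-- The spectral object in `C` given by the cohomology of the truncations of `K`. -/
noncomputable def soH : Abelian.SpectralObject C EInt :=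
  mapHomological (soTri K) (DerivedCategory.Plus.homologyFunctor C 0)

lemma soH_H_obj (n : ℤ) (i j : EInt) (h : i ≤ j) :
    ((soH K).H n).obj (mk₁ (homOfLE h)) =
      (DerivedCategory.Plus.homologyFunctor C n).obj
        ((DerivedCategory.Plus.TStructure.t.eTruncGE.obj i).obj
          ((DerivedCategory.Plus.TStructure.t.eTruncLT.obj j).obj K)) := rfl

lemma soH_isConcentrated : IsConcentrated (soH K) where
  isZero₁ i j hij n hi := by
    obtain ⟨m, hm, hmi⟩ := exists_int_lt_le n i hi
    haveI := DerivedCategory.Plus.TStructure.t.isGE_eTruncGE_obj_obj m i hmi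
      ((DerivedCategory.Plus.TStructure.t.eTruncLT.obj j).obj K)
    rw [soH_H_obj]
    exact DerivedCategory.Plus.isZero_homology_of_isGE _ m n hm
  isZero₂ i j hij n hj := by
    rw [soH_H_obj]
    induction j using WithBotTop.rec with
    | bot =>
      have h0 : IsZero ((DerivedCategory.Plus.TStructure.t.eTruncLT.obj ⊥).obj K) :=
        Functor.zero_obj _
      exact Functor.map_isZero _ (Functor.map_isZero _ h0)
    | coe b =>
      have hb : b ≤ n := WithBotTop.coe_le_coe.1 hj
      haveI := DerivedCategory.Plus.TStructure.t.isLE_eTruncLT_obj_obj (b - 1) (b : EInt)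
        (WithBotTop.coe_le_coe.2 (by omega)) K
      exact DerivedCategory.Plus.isZero_homology_of_isLE _ (b - 1) n (by omega)
    | top => exact (WithBotTop.coe_ne_top n (top_le_iff.1 hj)).elim

/-- The truncation `τ_{≥ q} τ_{< q + 1} K`. -/
noncomputable abbrev Zq (q : ℤ) : DerivedCategory.Plus C :=
  (DerivedCategory.Plus.TStructure.t.eTruncGE.obj ((q : ℤ) : EInt)).obj
    ((DerivedCategory.Plus.TStructure.t.eTruncLT.obj ((q + 1 : ℤ) : EInt)).obj K)

/-- `H^q(τ_{≥ q} τ_{< q + 1} K) ≅ H^q(K)`. -/
noncomputable def homologyZqIso (q : ℤ) :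
    (DerivedCategory.Plus.homologyFunctor C q).obj (Zq K q) ≅
      (DerivedCategory.Plus.homologyFunctor C q).obj K :=
  (soH_isConcentrated K).iso q

lemma exists_Zq_iso_single (q : ℤ) :
    Nonempty (Zq K q ≅ (DerivedCategory.Plus.singleFunctor C q).obj
      ((DerivedCategory.Plus.homologyFunctor C q).obj K)) := by
  haveI : DerivedCategory.Plus.TStructure.t.IsGE (Zq K q) q :=
    DerivedCategory.Plus.TStructure.t.isGE_eTruncGE_obj_obj q _ le_rfl _
  haveI : DerivedCategory.Plus.TStructure.t.IsLE
      ((DerivedCategory.Plus.TStructure.t.eTruncLT.obj ((q + 1 : ℤ) : EInt)).obj K) q :=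
    DerivedCategory.Plus.TStructure.t.isLE_eTruncLT_obj_obj q _ le_rfl K
  haveI : DerivedCategory.Plus.TStructure.t.IsLE (Zq K q) q := inferInstance
  obtain ⟨M, ⟨e⟩⟩ := DerivedCategory.exists_iso_singleFunctor_obj_of_isGE_of_isLE
    (DerivedCategory.Plus.ι.obj (Zq K q)) q
  let e' : Zq K q ≅ (DerivedCategory.Plus.singleFunctor C q).obj M :=
    DerivedCategory.Plus.ι.preimageIso e
  let eM : M ≅ (DerivedCategory.Plus.homologyFunctor C q).obj K :=
    ((DerivedCategory.singleFunctorCompHomologyFunctorIso C q).app M).symm ≪≫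
      (DerivedCategory.Plus.homologyFunctor C q).mapIso e'.symm ≪≫ homologyZqIso K q
  exact ⟨e' ≪≫ (DerivedCategory.Plus.singleFunctor C q).mapIso eM⟩

end SO

end Groth.Agent.Lib.Helper2.GSS
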