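import Mathlib.Algebra.Homology.DerivedCategory.Ext.ExactSequences

/-!
# Vanishing of `Ext(X₃, Y)` in low degrees in terms of `Ext(X₂, Y) ⟶ Ext(X₁, Y)` (helper2)
-/

set_option autoImplicit false
universe w v u

namespace Groth.Agent.Lib.Helper2.ExtContra

open CategoryTheory CategoryTheory.Abelian

variable {C : Type u} [Category.{v} C] [Abelian C] [HasExt.{w} C]

/-- restriction map `Ext(X₂, Y) ⟶ Ext(X₁, Y)`. -/
noncomputable abbrev r (S : ShortComplex C) (Y : C) (i : ℕ) : Ext S.X₂ Y i → Ext S.X₁ Y i :=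
  fun x => (Ext.mk₀ S.f).comp x (zero_add i)

theorem subsingleton_iff (S : ShortComplex C) (hS : S.ShortExact) (Y : C) (N : ℕ) :
    (∀ i : ℕ, i ≤ N → Subsingleton (Ext S.X₃ Y i)) ↔
      (∀ i : ℕ, i < N → Function.Bijective (r S Y i)) ∧ Function.Injective (r S Y N) := by
  have hinj : ∀ i : ℕ, Subsingleton (Ext S.X₃ Y i) → Function.Injective (r S Y i) := by
    intro i hsub x y hxy
    have h0 : (Ext.mk₀ S.f).comp (x - y) (zero_add i) = 0 := by
      have h1 := map_sub ((Ext.mk₀ S.f).precomp Y (zero_add i)) x y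
      exact h1.trans (sub_eq_zero.2 hxy)
    obtain ⟨x₃, hx₃⟩ := Ext.contravariant_sequence_exact₂ hS Y (x - y) h0
    rw [Subsingleton.elim x₃ 0, Ext.comp_zero] at hx₃
    exact sub_eq_zero.1 hx₃.symm
  constructor
  · intro h
    refine ⟨fun i hi => ⟨hinj i (h i hi.le), ?_⟩, hinj N (h N le_rfl)⟩
    intro x₁
    have := h (i + 1) hi
    have hx₁ : hS.extClass.comp x₁ (add_comm 1 i) = 0 := Subsingleton.elim _ _
    exact Ext.contravariant_sequence_exact₁ hS Y x₁ (add_comm 1 i) hx₁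
  · rintro ⟨hb, hN⟩ i hi
    have hinj' : Function.Injective (r S Y i) := by
      rcases Nat.lt_or_ge i N with h | h
      · exact (hb i h).1
      · obtain rfl : i = N := le_antisymm hi h
        exact hN
    refine subsingleton_of_forall_eq 0 (fun x₃ => ?_)
    have h1 : (Ext.mk₀ S.g).comp x₃ (zero_add i) = 0 := by
      apply hinj'
      change (Ext.mk₀ S.f).comp ((Ext.mk₀ S.g).comp x₃ (zero_add i)) (zero_add i) =
        (Ext.mk₀ S.f).comp 0 (zero_add i)
      rw [Ext.mk₀_comp_mk₀_assoc, S.zero, Ext.mk₀_zero, Ext.zero_comp, Ext.comp_zero]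
    cases i with
    | zero =>
      haveI := hS.epi_g
      apply Ext.precomp_mk₀_injective_of_epi Y S.g
      change (Ext.mk₀ S.g).comp x₃ (zero_add 0) = (Ext.mk₀ S.g).comp 0 (zero_add 0)
      rw [h1, Ext.comp_zero]
    | succ n =>
      obtain ⟨x₁, hx₁⟩ := Ext.contravariant_sequence_exact₃ hS Y x₃ h1 (add_comm 1 n)
      obtain ⟨x₂, hx₂⟩ := (hb n (Nat.lt_of_succ_le hi)).2 x₁
      rw [← hx₁, ← hx₂]
      change hS.extClass.comp ((Ext.mk₀ S.f).comp x₂ (zero_add n)) (add_comm 1 n) = 0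
      rw [ShortComplex.ShortExact.extClass_comp_assoc]

end Groth.Agent.Lib.Helper2.ExtContra
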