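import Groth.Agent.Lib.Helper2.RDBridge
import Mathlib.Algebra.Homology.HomologySequenceLemmas
import Mathlib.Algebra.Homology.HomologicalComplexAbelian

/-!
# The long exact sequence of right derived functors attached to a short exact sequence of functors (helper2)

Let `α : T₁ ⟶ T₂`, `β : T₂ ⟶ T₃` be natural transformations of additive functors `𝒜 ⥤ ℬ` with `α ≫ β = 0`
such that `0 ⟶ T₁ I ⟶ T₂ I ⟶ T₃ I ⟶ 0` is short exact for every injective `I`.  Then there are **natural**
connecting maps `δ n : RⁿT₃ ⟶ Rⁿ⁺¹T₁` and a long exact sequence.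
-/

set_option autoImplicit false
universe v v' u u'

namespace Groth.Agent.Lib.Helper2.FunctorSES

open CategoryTheory CategoryTheory.Limits

variable {𝒜 : Type u} [Category.{v} 𝒜] [Abelian 𝒜] [HasInjectiveResolutions 𝒜]
  {ℬ : Type u'} [Category.{v'} ℬ] [Abelian ℬ]
  {T₁ T₂ T₃ : 𝒜 ⥤ ℬ} [T₁.Additive] [T₂.Additive] [T₃.Additive]
  (α : T₁ ⟶ T₂) (β : T₂ ⟶ T₃) (hαβ : α ≫ β = 0)

include hαβ in
lemma app_comp_app (I : 𝒜) : α.app I ≫ β.app I = 0 := by
  rw [← NatTrans.comp_app, hαβ]
  rfl

/-- the short complex of complexes `T₁ K ⟶ T₂ K ⟶ T₃ K`. -/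
noncomputable def scOf (K : CochainComplex 𝒜 ℕ) : ShortComplex (CochainComplex ℬ ℕ) :=
  ShortComplex.mk ((NatTrans.mapHomologicalComplex α (ComplexShape.up ℕ)).app K)
    ((NatTrans.mapHomologicalComplex β (ComplexShape.up ℕ)).app K) (by
      ext i
      exact app_comp_app α β hαβ (K.X i))

/-- functoriality of `scOf`. -/
noncomputable def scMap {K L : CochainComplex 𝒜 ℕ} (φ : K ⟶ L) :
    scOf α β hαβ K ⟶ scOf α β hαβ L where
  τ₁ := (T₁.mapHomologicalComplex (ComplexShape.up ℕ)).map φ
  τ₂ := (T₂.mapHomologicalComplex (ComplexShape.up ℕ)).map φ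
  τ₃ := (T₃.mapHomologicalComplex (ComplexShape.up ℕ)).map φ
  comm₁₂ := ((NatTrans.mapHomologicalComplex α (ComplexShape.up ℕ)).naturality φ)
  comm₂₃ := ((NatTrans.mapHomologicalComplex β (ComplexShape.up ℕ)).naturality φ)

variable (hI : ∀ I : 𝒜, Injective I →
  (ShortComplex.mk (α.app I) (β.app I) (app_comp_app α β hαβ I)).ShortExact)

include hI in
lemma scOf_shortExact (K : CochainComplex 𝒜 ℕ) (hK : ∀ i, Injective (K.X i)) :
    (scOf α β hαβ K).ShortExact :=
  HomologicalComplex.shortExact_of_degreewise_shortExact _ (fun i => hI (K.X i) (hK i))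

include hI in
/-- the short exact sequence of complexes attached to the chosen injective resolution. -/
lemma scOf_res_shortExact (X : 𝒜) :
    (scOf α β hαβ (injectiveResolution X).cocomplex).ShortExact :=
  scOf_shortExact α β hαβ hI _ (fun i => (injectiveResolution X).injective i)

include hI in
/-- the connecting map. -/
noncomputable def deltaApp (n : ℕ) (X : 𝒜) :
    (T₃.rightDerived n).obj X ⟶ (T₁.rightDerived (n + 1)).obj X :=
  ((injectiveResolution X).isoRightDerivedObj T₃ n).hom ≫
    (scOf_res_shortExact α β hαβ hI X).δ n (n + 1) (by simp) ≫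
      ((injectiveResolution X).isoRightDerivedObj T₁ (n + 1)).inv

include hI in
lemma deltaApp_naturality (n : ℕ) {X Y : 𝒜} (f : X ⟶ Y) :
    (T₃.rightDerived n).map f ≫ deltaApp α β hαβ hI n Y =
      deltaApp α β hαβ hI n X ≫ (T₁.rightDerived (n + 1)).map f := by
  have h3 := InjectiveResolution.isoRightDerivedObj_hom_naturality f (injectiveResolution X)
    (injectiveResolution Y) (InjectiveResolution.desc f _ _)
    (InjectiveResolution.desc_commutes_zero f _ _) T₃ n
  have h1 := InjectiveResolution.isoRightDerivedObj_inv_naturality f (injectiveResolution X)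
    (injectiveResolution Y) (InjectiveResolution.desc f _ _)
    (InjectiveResolution.desc_commutes_zero f _ _) T₁ (n + 1)
  have hδ := HomologicalComplex.HomologySequence.δ_naturality
    (scMap α β hαβ (InjectiveResolution.desc f (injectiveResolution Y) (injectiveResolution X)))
    (scOf_res_shortExact α β hαβ hI X) (scOf_res_shortExact α β hαβ hI Y) n (n + 1) (by simp)
  have e1 : (T₃.rightDerived n).map f ≫ deltaApp α β hαβ hI n Y =
      ((T₃.rightDerived n).map f ≫ ((injectiveResolution Y).isoRightDerivedObj T₃ n).hom) ≫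
        (scOf_res_shortExact α β hαβ hI Y).δ n (n + 1) (by simp) ≫
          ((injectiveResolution Y).isoRightDerivedObj T₁ (n + 1)).inv :=
    (Category.assoc _ _ _).symm
  have e2 : deltaApp α β hαβ hI n X ≫ (T₁.rightDerived (n + 1)).map f =
      ((injectiveResolution X).isoRightDerivedObj T₃ n).hom ≫
        (scOf_res_shortExact α β hαβ hI X).δ n (n + 1) (by simp) ≫
          (((injectiveResolution X).isoRightDerivedObj T₁ (n + 1)).inv ≫
            (T₁.rightDerived (n + 1)).map f) := by
    simp only [deltaApp, Category.assoc]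
  refine e1.trans (Eq.trans ?_ e2.symm)
  refine (congrArg (· ≫ (scOf_res_shortExact α β hαβ hI Y).δ n (n + 1) (by simp) ≫
          ((injectiveResolution Y).isoRightDerivedObj T₁ (n + 1)).inv) h3).trans ?_
  refine (Category.assoc _ _ _).trans
    (congrArg (fun t => ((injectiveResolution X).isoRightDerivedObj T₃ n).hom ≫ t) ?_)
  refine Eq.trans ?_ (congrArg (fun t => (scOf_res_shortExact α β hαβ hI X).δ n (n + 1) (by simp) ≫ t)
    h1.symm)
  exact (Category.assoc _ _ _).symm.trans ((congrArg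
    (· ≫ ((injectiveResolution Y).isoRightDerivedObj T₁ (n + 1)).inv) hδ.symm).trans
      (Category.assoc _ _ _))

/-- **the natural connecting map** `RⁿT₃ ⟶ Rⁿ⁺¹T₁`. -/
noncomputable def delta (n : ℕ) : T₃.rightDerived n ⟶ T₁.rightDerived (n + 1) where
  app X := deltaApp α β hαβ hI n X
  naturality {X Y} f := deltaApp_naturality α β hαβ hI n f

/-! ### Exactness -/

section aux
variable {C : Type*} [Category C]

lemma aux_sq {A A' B B' : C} (a : A ≅ A') (b : B ≅ B') (m : A' ⟶ B') (r : A ⟶ B)
    (hr : r = a.hom ≫ m ≫ b.inv) : r ≫ b.hom = a.hom ≫ m := by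
  subst hr; simp

lemma aux_zero [HasZeroMorphisms C] {A A' B B' D D' : C} (a : A ≅ A') (b : B ≅ B') (d : D ≅ D')
    (m : A' ⟶ B') (m' : B' ⟶ D') (hm : m ≫ m' = 0) (r : A ⟶ B) (r' : B ⟶ D)
    (hr : r = a.hom ≫ m ≫ b.inv) (hr' : r' = b.hom ≫ m' ≫ d.inv) : r ≫ r' = 0 := by
  subst hr hr'
  simp only [Category.assoc, Iso.inv_hom_id_assoc]
  rw [reassoc_of% hm]
  simp

end aux

lemma rd_app_eq (n : ℕ) (X : 𝒜) :
    (NatTrans.rightDerived α n).app X =
      ((injectiveResolution X).isoRightDerivedObj T₁ n).hom ≫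
        HomologicalComplex.homologyMap (scOf α β hαβ (injectiveResolution X).cocomplex).f n ≫
          ((injectiveResolution X).isoRightDerivedObj T₂ n).inv :=
  InjectiveResolution.rightDerived_app_eq α (injectiveResolution X) n

lemma rd_app_eq' (n : ℕ) (X : 𝒜) :
    (NatTrans.rightDerived β n).app X =
      ((injectiveResolution X).isoRightDerivedObj T₂ n).hom ≫
        HomologicalComplex.homologyMap (scOf α β hαβ (injectiveResolution X).cocomplex).g n ≫
          ((injectiveResolution X).isoRightDerivedObj T₃ n).inv :=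
  InjectiveResolution.rightDerived_app_eq β (injectiveResolution X) n

include hI in
lemma delta_app_eq (n : ℕ) (X : 𝒜) :
    (delta α β hαβ hI n).app X =
      ((injectiveResolution X).isoRightDerivedObj T₃ n).hom ≫
        (scOf_res_shortExact α β hαβ hI X).δ n (n + 1) (by simp) ≫
          ((injectiveResolution X).isoRightDerivedObj T₁ (n + 1)).inv := rfl

include hαβ in
lemma rd_comp (n : ℕ) (X : 𝒜) :
    (NatTrans.rightDerived α n).app X ≫ (NatTrans.rightDerived β n).app X = 0 := by
  have hz : HomologicalComplex.homologyMap (scOf α β hαβ (injectiveResolution X).cocomplex).f n ≫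
      HomologicalComplex.homologyMap (scOf α β hαβ (injectiveResolution X).cocomplex).g n = 0 := by
    rw [← HomologicalComplex.homologyMap_comp, (scOf α β hαβ _).zero,
      HomologicalComplex.homologyMap_zero]
  exact aux_zero _ _ _ _ _ hz _ _ (rd_app_eq α β hαβ n X) (rd_app_eq' α β hαβ n X)

include hI in
/-- exactness at `RⁿT₂`. -/
lemma exact₂ (n : ℕ) (X : 𝒜) :
    (ShortComplex.mk ((NatTrans.rightDerived α n).app X) ((NatTrans.rightDerived β n).app X)
      (rd_comp α β hαβ n X)).Exact := by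
  have h := (scOf_res_shortExact α β hαβ hI X).homology_exact₂ n
  exact (ShortComplex.exact_iff_of_iso (ShortComplex.isoMk
    ((injectiveResolution X).isoRightDerivedObj T₁ n)
    ((injectiveResolution X).isoRightDerivedObj T₂ n)
    ((injectiveResolution X).isoRightDerivedObj T₃ n)
    (aux_sq _ _ _ _ (rd_app_eq α β hαβ n X)).symm (aux_sq _ _ _ _ (rd_app_eq' α β hαβ n X)).symm)).2 h

include hI in
lemma rd_comp_delta (n : ℕ) (X : 𝒜) :
    (NatTrans.rightDerived β n).app X ≫ (delta α β hαβ hI n).app X = 0 :=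
  aux_zero _ _ _ _ _ ((scOf_res_shortExact α β hαβ hI X).comp_δ n (n + 1) (by simp)) _ _
    (rd_app_eq' α β hαβ n X) (delta_app_eq α β hαβ hI n X)

include hI in
/-- exactness at `RⁿT₃`. -/
lemma exact₃ (n : ℕ) (X : 𝒜) :
    (ShortComplex.mk ((NatTrans.rightDerived β n).app X) ((delta α β hαβ hI n).app X)
      (rd_comp_delta α β hαβ hI n X)).Exact := by
  have h := (scOf_res_shortExact α β hαβ hI X).homology_exact₃ n (n + 1) (by simp)
  exact (ShortComplex.exact_iff_of_iso (ShortComplex.isoMk
    ((injectiveResolution X).isoRightDerivedObj T₂ n)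
    ((injectiveResolution X).isoRightDerivedObj T₃ n)
    ((injectiveResolution X).isoRightDerivedObj T₁ (n + 1))
    (aux_sq _ _ _ _ (rd_app_eq' α β hαβ n X)).symm
    (aux_sq _ _ _ _ (delta_app_eq α β hαβ hI n X)).symm)).2 h

include hI in
lemma delta_comp_rd (n : ℕ) (X : 𝒜) :
    (delta α β hαβ hI n).app X ≫ (NatTrans.rightDerived α (n + 1)).app X = 0 :=
  aux_zero _ _ _ _ _ ((scOf_res_shortExact α β hαβ hI X).δ_comp n (n + 1) (by simp)) _ _
    (delta_app_eq α β hαβ hI n X) (rd_app_eq α β hαβ (n + 1) X)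

include hI in
/-- exactness at `Rⁿ⁺¹T₁`. -/
lemma exact₁ (n : ℕ) (X : 𝒜) :
    (ShortComplex.mk ((delta α β hαβ hI n).app X) ((NatTrans.rightDerived α (n + 1)).app X)
      (delta_comp_rd α β hαβ hI n X)).Exact := by
  have h := (scOf_res_shortExact α β hαβ hI X).homology_exact₁ n (n + 1) (by simp)
  exact (ShortComplex.exact_iff_of_iso (ShortComplex.isoMk
    ((injectiveResolution X).isoRightDerivedObj T₃ n)
    ((injectiveResolution X).isoRightDerivedObj T₁ (n + 1))
    ((injectiveResolution X).isoRightDerivedObj T₂ (n + 1))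
    (aux_sq _ _ _ _ (delta_app_eq α β hαβ hI n X)).symm
    (aux_sq _ _ _ _ (rd_app_eq α β hαβ (n + 1) X)).symm)).2 h

include hI in
lemma epi_delta_app (n : ℕ) (X : 𝒜) (h : IsZero ((T₂.rightDerived (n + 1)).obj X)) :
    Epi ((delta α β hαβ hI n).app X) :=
  (exact₁ α β hαβ hI n X).epi_f (h.eq_of_tgt _ _)

include hI in
lemma mono_delta_app (n : ℕ) (X : 𝒜) (h : IsZero ((T₂.rightDerived n).obj X)) :
    Mono ((delta α β hαβ hI n).app X) :=
  (exact₃ α β hαβ hI n X).mono_g (h.eq_of_src _ _)

include hI in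
lemma isIso_delta_app (n : ℕ) (X : 𝒜) (h : IsZero ((T₂.rightDerived n).obj X))
    (h' : IsZero ((T₂.rightDerived (n + 1)).obj X)) :
    IsIso ((delta α β hαβ hI n).app X) := by
  have := epi_delta_app α β hαβ hI n X h'
  have := mono_delta_app α β hαβ hI n X h
  exact isIso_of_mono_of_epi _

include hI in
/-- if `RⁿT₂ = 0 = Rⁿ⁺¹T₂` then `δ n : RⁿT₃ ≅ Rⁿ⁺¹T₁`. -/
lemma isIso_delta (n : ℕ) (h : ∀ X, IsZero ((T₂.rightDerived n).obj X))
    (h' : ∀ X, IsZero ((T₂.rightDerived (n + 1)).obj X)) :
    IsIso (delta α β hαβ hI n) := by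
  have : ∀ X, IsIso ((delta α β hαβ hI n).app X) :=
    fun X => isIso_delta_app α β hαβ hI n X (h X) (h' X)
  exact NatIso.isIso_of_isIso_app _

end Groth.Agent.Lib.Helper2.FunctorSES
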