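import Groth.Agent.Lib.Helper2.GSS.Derived
import Groth.Agent.Lib.Helper2.GSS.Abutment
import Groth.Agent.Lib.Helper2.Leray

/-!
# Identification of the terms of the Grothendieck spectral sequence (helper2)
-/

set_option autoImplicit false
universe w v u v'' u''

namespace Groth.Agent.Lib.Helper2.GSS

open CategoryTheory CategoryTheory.Limits
open Groth.Agent.Lib.Helper2.RDBridge

section Classical

variable {C : Type u} [Category.{v} C] [Abelian C] [HasInjectiveResolutions C]
  {D : Type u''} [Category.{v''} D] [Abelian D] (S : C ⥤ D) [S.Additive]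

/-- `Hᵏ(S(I)) ≅ RᵏS(M)` for an injective resolution `I` of `M`. -/
noncomputable def homologyIsoRightDerived {M : C} (I : InjectiveResolution M) (k : ℕ) :
    ((S.mapHomologicalComplex (ComplexShape.up ℤ)).obj I.cochainComplex).homology (k : ℤ) ≅
      (S.rightDerived k).obj M :=
  (HomologicalComplex.homologyFunctor D _ (k : ℤ)).mapIso
      (mapExtendIso S I.cocomplex ComplexShape.embeddingUpNat) ≪≫
    HomologicalComplex.extendHomologyIso ((S.mapHomologicalComplex _).obj I.cocomplex)
      ComplexShape.embeddingUpNat (j := k) (j' := (k : ℤ)) rfl ≪≫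
    (I.isoRightDerivedObj S k).symm

end Classical

section Model

variable {C : Type u} [Category.{v} C] [Abelian C] [EnoughInjectives C]
  {D : Type u''} [Category.{v''} D] [Abelian D] (S : C ⥤ D) [S.Additive]
  [PreservesFiniteLimits S]

open Groth.Agent.Lib.Helper2.Leray in
/-- A bounded below complex with `S`-acyclic terms admits a quasi-isomorphism to a bounded below
complex of injectives which stays a quasi-isomorphism after applying `S`. -/
lemma exists_injective_model (K : CochainComplex C ℤ) (a : ℤ) [K.IsStrictlyGE a]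
    (hK : ∀ m, RAcyc S (K.X m)) :
    ∃ (L : CochainComplex C ℤ) (i : K ⟶ L), QuasiIso i ∧ (∀ n, Injective (L.X n)) ∧
      L.IsStrictlyGE (a - 1) ∧
      QuasiIso ((S.mapHomologicalComplex (ComplexShape.up ℤ)).map i) := by
  obtain ⟨L, i, hi, hi', hL, hLge⟩ :=
    CochainComplex.Plus.modelCategoryQuillen.exists_mono_quasiIso_injective K (a - 1) a
      (by omega)
  let T : ShortComplex (CochainComplex C ℤ) :=
    ShortComplex.mk i (cokernel.π i) (cokernel.condition i)
  have hT : T.ShortExact :=
    { exact := ShortComplex.exact_cokernel i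
      mono_f := hi
      epi_g := inferInstanceAs (Epi (cokernel.π i)) }
  have hTn : ∀ n, (T.map (HomologicalComplex.eval C (ComplexShape.up ℤ) n)).ShortExact :=
    fun n => hT.map_of_exact _
  have hterms : ∀ n, RAcyc S (T.X₃.X n) := fun n =>
    racyc_X₃ S _ (hTn n) (hK n) (haveI := hL n; racyc_of_injective S (L.X n))
  let T' := T.map (S.mapHomologicalComplex (ComplexShape.up ℤ))
  have hT' : T'.ShortExact := by
    apply HomologicalComplex.shortExact_of_degreewise_shortExact
    intro n
    exact shortExact_map_of_isZero S _ (hTn n) (hK n 1 (by omega))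
  have hMacyc : T.X₃.Acyclic := hT.acyclic_X₃ hi'
  haveI : T.X₃.IsStrictlyGE (a - 1) := by
    rw [CochainComplex.isStrictlyGE_iff]
    intro n hn
    have hepi : Epi (T.map (HomologicalComplex.eval C (ComplexShape.up ℤ) n)).g := (hTn n).epi_g
    exact @IsZero.of_epi _ _ _ _ _ (T.map (HomologicalComplex.eval C (ComplexShape.up ℤ) n)).g
      hepi (CochainComplex.isZero_of_isStrictlyGE L (a - 1) n hn)
  have hFM := map_acyclic S T.X₃ (a - 1) hMacyc hterms
  exact ⟨L, i, hi', hL, hLge, quasiIso_f_of_acyclic hT' hFM⟩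

end Model

section Derived

variable {C : Type u} [Category.{v} C] [Abelian C] [HasDerivedCategory.{w} C]
  [EnoughInjectives C]
  {D : Type u''} [Category.{v''} D] [Abelian D] (S : C ⥤ D) [S.Additive]

/-- A bounded below complex with injective terms, as a complex in `InjectiveObject C`. -/
noncomputable def liftInj (L : CochainComplex C ℤ) (a : ℤ) (hLa : L.IsStrictlyGE a)
    (hL : ∀ n, Injective (L.X n)) : CochainComplex.Plus (InjectiveObject C) :=
  ⟨HomologicalComplex.liftObjectProperty _ L hL, ⟨a, by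
    rwa [← CochainComplex.isStrictlyGE_mapHomologicalComplex_obj_iff _ (InjectiveObject.ι _)]⟩⟩

/-- If `i : K ⟶ L` is a quasi-isomorphism to a bounded below complex of injectives,
then `Φⁿ(K) ≅ Hⁿ(S L)`. -/
noncomputable def shiftObjIsoOfQuasiIso (n : ℤ) (K : CochainComplex.Plus C)
    (L : CochainComplex C ℤ) (a : ℤ) (hLa : L.IsStrictlyGE a) (hL : ∀ n, Injective (L.X n))
    (i : K.obj ⟶ L) [QuasiIso i] :
    ((Φ C S).shift n).obj (DerivedCategory.Plus.Q.obj K) ≅
      ((S.mapHomologicalComplex (ComplexShape.up ℤ)).obj L).homology n :=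
  haveI : IsIso (DerivedCategory.Q.map i) := by
    rw [DerivedCategory.isIso_Q_map_iff_quasiIso]; infer_instance
  let e₀ : DerivedCategory.Q.obj K.obj ≅ DerivedCategory.Q.obj L := asIso (DerivedCategory.Q.map i)
  shiftObjIso S n (liftInj L a hLa hL) (DerivedCategory.Plus.Q.obj K)
    (DerivedCategory.Plus.ι.preimageIso e₀)

/-- If `K` is a bounded below complex with `S`-acyclic terms, then `Φⁿ(K) ≅ Hⁿ(S K)`. -/
lemma nonempty_shift_obj_iso_homology [PreservesFiniteLimits S] (n : ℤ)
    (K : CochainComplex.Plus C) (hK : ∀ m, RAcyc S (K.obj.X m)) :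
    Nonempty (((Φ C S).shift n).obj (DerivedCategory.Plus.Q.obj K) ≅
      ((S.mapHomologicalComplex (ComplexShape.up ℤ)).obj K.obj).homology n) := by
  obtain ⟨a, ha⟩ := K.property
  haveI : K.obj.IsStrictlyGE a := ha
  obtain ⟨L, i, hi, hL, hLa, hSi⟩ := exists_injective_model S K.obj a hK
  haveI := hi
  haveI := hSi
  exact ⟨shiftObjIsoOfQuasiIso S n K L (a - 1) hLa hL i ≪≫
    (asIso (HomologicalComplex.homologyMap
      ((S.mapHomologicalComplex (ComplexShape.up ℤ)).map i) n)).symm⟩

/-- `Φᵏ(M[0]) ≅ RᵏS(M)`. -/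
noncomputable def shiftSingleZeroIso {M : C} (I : InjectiveResolution M) (k : ℕ) :
    ((Φ C S).shift (k : ℤ)).obj ((DerivedCategory.Plus.singleFunctor C 0).obj M) ≅
      (S.rightDerived k).obj M :=
  let e₀ : (DerivedCategory.singleFunctor C 0).obj M ≅
      DerivedCategory.Q.obj ((CochainComplex.singleFunctor C 0).obj M) :=
    (DerivedCategory.singleFunctorIsoCompQ C 0).app M
  let e : (DerivedCategory.Plus.singleFunctor C 0).obj M ≅
      DerivedCategory.Plus.Q.obj ((sP C).obj M) := DerivedCategory.Plus.ι.preimageIso e₀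
  ((Φ C S).shift (k : ℤ)).mapIso e ≪≫
    shiftObjIsoOfQuasiIso S k ((sP C).obj M) (JI I).obj 0
      (inferInstanceAs (I.cochainComplex.IsStrictlyGE 0))
      (fun n => inferInstanceAs (Injective (I.cochainComplex.X n))) (ιP I).hom ≪≫
    homologyIsoRightDerived S I k

/-- `Φ^{p+q}(M[-q]) ≅ Φᵖ(M[0])`. -/
noncomputable def shiftSingleIso (M : C) (p q : ℤ) :
    ((Φ C S).shift (p + q)).obj ((DerivedCategory.Plus.singleFunctor C q).obj M) ≅
      ((Φ C S).shift p).obj ((DerivedCategory.Plus.singleFunctor C 0).obj M) :=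
  (((Φ C S).shiftIso q p (p + q) (add_comm q p)).app _).symm ≪≫
    ((Φ C S).shift p).mapIso
      (((DerivedCategory.Plus.singleFunctors C).shiftIso q 0 q (add_zero q)).app M)

/-- `H^q(Q K) ≅ H^q(K)`. -/
noncomputable def plusHomologyQIso (K : CochainComplex.Plus C) (q : ℤ) :
    (DerivedCategory.Plus.homologyFunctor C q).obj (DerivedCategory.Plus.Q.obj K) ≅
      K.obj.homology q :=
  (DerivedCategory.homologyFunctorFactors C q).app K.obj

lemma isGE_plusQ_obj (K : CochainComplex.Plus C) (a : ℤ) [K.obj.IsStrictlyGE a] :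
    DerivedCategory.Plus.TStructure.t.IsGE (DerivedCategory.Plus.Q.obj K) a := by
  refine (DerivedCategory.Plus.isGE_ι_obj_iff _ _).1 ?_
  change (DerivedCategory.Q.obj K.obj).IsGE a
  infer_instance

end Derived

section Main

variable {C : Type u} [Category.{v} C] [Abelian C] [HasDerivedCategory.{w} C]
  [EnoughInjectives C]
  {D : Type u''} [Category.{v''} D] [Abelian D] (S : C ⥤ D) [S.Additive]
  [PreservesFiniteLimits S]

/-- The hypercohomology spectral sequence `E₂^{p,q} = RᵖS(H^q(K)) ⇒ H^{p+q}(S K)` of a complex `K`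
in nonnegative degrees with `S`-acyclic terms. -/
theorem exists_spectralSequence (K : CochainComplex.Plus C) [K.obj.IsStrictlyGE 0]
    (hK : ∀ m, RAcyc S (K.obj.X m)) (H : ℤ → D)
    (hH : ∀ n, Nonempty (H n ≅
      ((S.mapHomologicalComplex (ComplexShape.up ℤ)).obj K.obj).homology n)) :
    ∃ (E : E₂CohomologicalSpectralSequence D) (a : SpSeq.Abutment E H),
      (∀ n, a.IsFinite n) ∧ SpSeq.IsBounded E ∧
      (∀ (p q : ℕ), Nonempty ((E.page 2 le_rfl).X ((p : ℤ), (q : ℤ)) ≅
        (S.rightDerived p).obj (K.obj.homology (q : ℤ)))) ∧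
      (∀ p q : ℤ, (p < 0 ∨ q < 0) → IsZero ((E.page 2 le_rfl).X (p, q))) := by
  haveI := isGE_plusQ_obj K 0
  let KD := DerivedCategory.Plus.Q.obj K
  let Y := so S KD
  have e : ∀ n, H n ≅ abut Y n := fun n =>
    (hH n).some ≪≫ (nonempty_shift_obj_iso_homology S n K hK).some.symm
  refine ⟨Y.E₂SpectralSequence, abutment Y H e, abutment_isFinite Y H e, isBounded Y, ?_, ?_⟩
  · intro p q
    obtain ⟨eZ⟩ := exists_Zq_iso_single KD (q : ℤ)
    let M := (DerivedCategory.Plus.homologyFunctor C (q : ℤ)).obj KD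
    let I : InjectiveResolution M := injectiveResolution M
    exact ⟨pageTwoIso Y p q ≪≫ ((Φ C S).shift ((p : ℤ) + (q : ℤ))).mapIso eZ ≪≫
      shiftSingleIso S M p q ≪≫ shiftSingleZeroIso S I p ≪≫
      (S.rightDerived p).mapIso (plusHomologyQIso K q)⟩
  · rintro p q (hp | hq)
    · exact isZero_page_of_fst_neg Y 2 le_rfl (p, q) hp
    · exact isZero_page_of_snd_neg Y 2 le_rfl (p, q) hq

end Main

end Groth.Agent.Lib.Helper2.GSS
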